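import Groth.Agent.L25.Dyn.TorusCentralizer
import Groth.Agent.L25.Bridge.Spec
import Groth.Agent.L25.Bridge.Lift
import Groth.Agent.L25.RatConn
import Groth.Agent.L25.Locus.Torus
import Groth.Agent.L25.TrivLocus
import Groth.Prelude.Def_Red2

/-!
# The centralizer of a torus in a connected group is connected
-/

set_option autoImplicit false

universe u

open CategoryTheory CategoryTheory.Limits MonoidalCategory CartesianMonoidalCategory MonObj GrpObj
open AlgebraicGeometry TensorProduct WithConv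

set_option backward.isDefEq.respectTransparency.types false

noncomputable section

namespace Groth.L25.Dyn

section Restrict

variable {k : Type u} [CommRing k] {A : Type u} [CommRing A] [HopfAlgebra k A]
  {K : Type u} [CommRing K] [Algebra k K] {D : Type u} [CommRing D] [Algebra k D] [Algebra K D]
  [IsScalarTower k K D]

/-- restriction of points of the base change -/
def resPt : Pt (k := K) (K ⊗[k] A) D →* Pt (k := k) A D where
  toFun f := toConv ((f.ofConv.restrictScalars k).comp Algebra.TensorProduct.includeRight)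
  map_one' := WithConv.ext (AlgHom.ext fun a => by
    show algebraMap K D (Coalgebra.counit (R := K) ((1 : K) ⊗ₜ[k] a)) = algebraMap k D (Coalgebra.counit a)
    simp [IsScalarTower.algebraMap_apply k K D, Algebra.smul_def])
  map_mul' f g := WithConv.ext (AlgHom.ext fun a => by
    show Algebra.TensorProduct.lmul' K (Algebra.TensorProduct.map f.ofConv g.ofConv
        (Coalgebra.comul (R := K) ((1 : K) ⊗ₜ[k] a))) =
      Algebra.TensorProduct.lmul' k (Algebra.TensorProduct.map
        ((f.ofConv.restrictScalars k).comp Algebra.TensorProduct.includeRight)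
        ((g.ofConv.restrictScalars k).comp Algebra.TensorProduct.includeRight) (Coalgebra.comul (R := k) a))
    rw [TensorProduct.comul_tmul, CommSemiring.comul_apply]
    generalize Coalgebra.comul (R := k) a = w
    induction w using TensorProduct.induction_on with
    | zero => simp
    | add p q hp hq => simp only [tmul_add, map_add, hp, hq]
    | tmul p q => simp)

theorem resPt_injective : Function.Injective (resPt (k := k) (A := A) (K := K) (D := D)) := fun f g h => by
  refine WithConv.ext (Algebra.TensorProduct.ext (Subsingleton.elim _ _) ?_)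
  exact congrArg WithConv.ofConv h

end Restrict

/-- a morphism over an affine base into an affine scheme comes from a homomorphism of algebras -/
theorem exists_algHom {k R D : Type u} [CommRing k] [CommRing R] [CommRing D] [Algebra k R] [Algebra k D]
    (f : (Spec (CommRingCat.of R)).asOver (Spec (CommRingCat.of k)) ⟶
      (Spec (CommRingCat.of D)).asOver (Spec (CommRingCat.of k))) :
    ∃ ψ : D →ₐ[k] R, f = (Spec.map (CommRingCat.ofHom ψ.toRingHom)).asOver (Spec (CommRingCat.of k)) := by
  obtain ⟨θ, hθ⟩ := Spec.map_surjective f.left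
  have h : CommRingCat.ofHom (algebraMap k D) ≫ θ = CommRingCat.ofHom (algebraMap k R) := by
    apply Spec.map_injective
    rw [Spec.map_comp, hθ]
    exact Over.w f
  refine ⟨{ θ.hom with commutes' := fun r => congr($h r) }, ?_⟩
  ext1
  exact hθ.symm

/-- morphisms agree if they agree on points with values in affine schemes -/
theorem hom_ext_spec {k : Type u} [CommRing k] {X Y : Over (Spec (CommRingCat.of k))} (a b : X ⟶ Y)
    (h : ∀ (R : Type u) [CommRing R] [Algebra k R]
      (y : (Spec (CommRingCat.of R)).asOver (Spec (CommRingCat.of k)) ⟶ X), y ≫ a = y ≫ b) : a = b := by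
  ext1
  have key : ∀ (R : CommRingCat.{u}) (f : Spec R ⟶ X.left), f ≫ a.left = f ≫ b.left := fun R f => by
    obtain ⟨θ, hθ⟩ := Spec.map_surjective (f ≫ X.hom)
    letI : Algebra k R := θ.hom.toAlgebra
    exact congrArg CommaMorphism.left (h R (Over.homMk f hθ.symm))
  exact Scheme.Cover.hom_ext X.left.affineCover _ _ fun j => key _ _

/-- a field over which a torus is split -/
theorem exists_field_split {k : Type u} [Field k] {T : Over (Spec (CommRingCat.of k))} [GrpObj T]
    (hT : Red.IsTorus T) : ∃ (K : Type u) (_ : Field K) (_ : Algebra k K) (r : ℕ),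
      Nonempty (Grp.mk (Red.bc (Spec.map (CommRingCat.ofHom (algebraMap k K))) T) ≅
        Grp.mk (Red.DS (Spec (CommRingCat.of K)) (Fin r → ℤ))) := by
  obtain ⟨S', f, -, hsurj, -, hloc⟩ := hT
  obtain ⟨s', -⟩ := hsurj.surj (default : PrimeSpectrum k)
  obtain ⟨U, hU, r, ⟨e⟩⟩ := hloc s'
  let K := U.toScheme.residueField ⟨s', hU⟩
  let q : Spec (CommRingCat.of K) ⟶ U.toScheme := U.toScheme.fromSpecResidueField ⟨s', hU⟩
  obtain ⟨θ, hθ⟩ := Spec.map_surjective (q ≫ U.ι ≫ f)
  letI : Algebra k K := θ.hom.toAlgebra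
  exact ⟨K, inferInstance, inferInstance, r, ⟨TrivLocus.restrictIso (U.ι ≫ f) q e hθ.symm⟩⟩

/-- the main statement -/
theorem connectedSpace_centralizer' {k : Type u} [Field k] (G : Over (Spec (CommRingCat.of k))) [GrpObj G]
    [IsAffine G.left] [Smooth G.hom] [ConnectedSpace G.left]
    (T : Over (Spec (CommRingCat.of k))) [GrpObj T] (iT : T ⟶ G) [IsMonHom iT] (hT : Red.IsTorus T)
    (C : Over (Spec (CommRingCat.of k))) (c : C ⟶ G) [Mono c]
    (hc : ∀ (X : Over (Spec (CommRingCat.of k))) (g : X ⟶ G), (∃ z : X ⟶ C, z ≫ c = g) ↔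
      ∀ (X' : Over (Spec (CommRingCat.of k))) (x : X' ⟶ X) (h : X' ⟶ T),
        (x ≫ g) * (h ≫ iT) = (h ≫ iT) * (x ≫ g)) :
    ConnectedSpace C.left := by
  let S := Spec (CommRingCat.of k)
  have : IsAffineHom T.hom := Central.isAffineHom_of_multTypeFT (Locus.isMultTypeFT_of_isTorus hT)
  have : IsAffine T.left := isAffine_of_isAffineHom T.hom
  obtain ⟨A, _, _, ⟨eG⟩⟩ := Bridge.exists_hopf G
  obtain ⟨B, _, _, ⟨eT⟩⟩ := Bridge.exists_hopf T
  let jG : G ⟶ Bridge.P k A := eG.hom.hom.hom
  let iG : Bridge.P k A ⟶ G := eG.inv.hom.hom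
  have hji : jG ≫ iG = 𝟙 G := congr($(eG.hom_inv_id).hom.hom)
  have hij : iG ≫ jG = 𝟙 _ := congr($(eG.inv_hom_id).hom.hom)
  let jT : T ⟶ Bridge.P k B := eT.hom.hom.hom
  let iT' : Bridge.P k B ⟶ T := eT.inv.hom.hom
  have hjiT : jT ≫ iT' = 𝟙 T := congr($(eT.hom_inv_id).hom.hom)
  let hom₀ : Grp.mk (Bridge.P k B) ⟶ Grp.mk (Bridge.P k A) := eT.inv ≫ Grp.ofHom iT ≫ eG.hom
  obtain ⟨φ₀, hφ₀⟩ : ∃ φ₀ : A →ₐc[k] B,
      (Spec.map (CommRingCat.ofHom (φ₀ : A →ₐ[k] B).toRingHom)).asOver S = iT' ≫ iT ≫ jG := by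
    let f := (hopfSpec.fullyFaithful (R := CommRingCat.of k)).preimage
      (X := Opposite.op (CommHopfAlgCat.of k B)) (Y := Opposite.op (CommHopfAlgCat.of k A)) hom₀
    refine ⟨f.unop.hom, ?_⟩
    have h := (hopfSpec.fullyFaithful (R := CommRingCat.of k)).map_preimage
      (X := Opposite.op (CommHopfAlgCat.of k B)) (Y := Opposite.op (CommHopfAlgCat.of k A)) hom₀
    exact congrArg (fun m => m.hom.hom) h
  -- properties of `A`
  haveI : Algebra.FiniteType k A := by
    have : IsIso iG := ⟨jG, hij, hji⟩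
    have : IsIso iG.left := inferInstanceAs (IsIso ((Over.forget _).map iG))
    have h : LocallyOfFiniteType (Bridge.P k A).hom := by rw [← Over.w iG]; infer_instance
    change LocallyOfFiniteType (Spec.map (CommRingCat.ofHom (algebraMap k A))) at h
    rw [HasRingHomProperty.Spec_iff (P := @LocallyOfFiniteType), CommRingCat.hom_ofHom,
      RingHom.finiteType_algebraMap] at h
    exact h
  obtain ⟨K, _, _, r, ⟨eK⟩⟩ := exists_field_split hT
  let θ := Spec.map (CommRingCat.ofHom (algebraMap k K))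
  let M := Fin r → ℤ
  obtain ⟨d⟩ : Nonempty ((K ⊗[k] B) ≃ₐc[K] MonoidAlgebra K (Multiplicative M)) :=
    Bridge.exists_bialgEquiv ((Bridge.dsIso K M).symm ≪≫ eK.symm ≪≫ (Over.pullback θ).mapGrp.mapIso eT ≪≫
      Bridge.bcIso k B K)
  let d' : (K ⊗[k] B) ≃ₐc[K] AddMonoidAlgebra K M :=
    d.trans (AddMonoidAlgebra.toMultiplicativeBialgEquiv K K M).symm
  let φ : (K ⊗[k] A) →ₐc[K] AddMonoidAlgebra K M :=
    (d' : (K ⊗[k] B) →ₐc[K] AddMonoidAlgebra K M).comp (Bialgebra.TensorProduct.map (BialgHom.id K K) φ₀)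
  have hAK : ∀ e : K ⊗[k] A, IsIdempotentElem e → e = 0 ∨ e = 1 := by
    haveI : ConnectedSpace (Bridge.P k A).left :=
      (show Function.Surjective jG.left from fun z => ⟨iG.left z, by
        rw [← Scheme.Hom.comp_apply, ← Over.comp_left, hij]; rfl⟩).connectedSpace jG.left.continuous
    have hgc : GeometricallyConnected (Bridge.P k A).hom :=
      RatConn.geometricallyConnected_of_section _ η[Bridge.P k A].left (GrpBasics.unit_comp_hom _)
    haveI h1 : ConnectedSpace (pullback (Spec (CommRingCat.of A) ↘ Spec (CommRingCat.of k))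
        (Spec (CommRingCat.of K) ↘ Spec (CommRingCat.of k)) : Scheme.{u}) :=
      hgc.geometrically_connectedSpace θ _ _ (IsPullback.of_hasPullback _ _)
    let e := (pullbackSymmetry (Spec (CommRingCat.of A) ↘ Spec (CommRingCat.of k))
      (Spec (CommRingCat.of K) ↘ Spec (CommRingCat.of k)) ≪≫ pullbackSpecIso' k K A)
    haveI : ConnectedSpace (PrimeSpectrum (K ⊗[k] A)) :=
      (show Function.Surjective e.hom.base from e.hom.homeomorph.surjective).connectedSpace e.hom.continuous
    intro e he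
    rcases isClopen_iff.1 (PrimeSpectrum.isClopen_iff_mul_add.2 ⟨e, 1 - e, by rw [mul_sub, _root_.mul_one, he.eq, sub_self],
      add_sub_cancel _ _, rfl⟩ : IsClopen (PrimeSpectrum.basicOpen e : Set (PrimeSpectrum (K ⊗[k] A)))) with h | h
    · exact Or.inl (PrimeSpectrum.basicOpen_injOn_isIdempotentElem he IsIdempotentElem.zero
        (SetLike.ext' (h.trans (by rw [PrimeSpectrum.basicOpen_zero]; rfl))))
    · exact Or.inr (PrimeSpectrum.basicOpen_injOn_isIdempotentElem he IsIdempotentElem.one
        (SetLike.ext' (h.trans (by rw [PrimeSpectrum.basicOpen_one]; rfl))))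
  obtain ⟨J, hJe, hJ⟩ := exists_centralizer_ideal hAK φ
  let D := (K ⊗[k] A) ⧸ J
  let inc : A →ₐ[k] K ⊗[k] A := Algebra.TensorProduct.includeRight
  let mk : K ⊗[k] A →ₐ[K] D := Ideal.Quotient.mkₐ K J
  let gD : A →ₐ[k] D := (mk.restrictScalars k).comp inc
  let X := (Spec (CommRingCat.of D)).asOver S
  let g₀ : X ⟶ G := Spec.mapMulEquiv (toConv gD) ≫ iG
  have hnat : ∀ {R₁ R₂ : Type u} [CommRing R₁] [CommRing R₂] [Algebra k R₁] [Algebra k R₂]
      (a : A →ₐ[k] R₁) (b : R₁ →ₐ[k] R₂), (Spec.map (CommRingCat.ofHom b.toRingHom)).asOver S ≫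
        Spec.mapMulEquiv (toConv a) = Spec.mapMulEquiv (toConv (b.comp a)) := by
    intros
    ext1
    exact (Spec.map_comp _ _).symm
  have hTnat : ∀ {R : Type u} [CommRing R] [Algebra k R] (β : B →ₐ[k] R),
      Spec.mapMulEquiv (toConv (β.comp (φ₀ : A →ₐ[k] B))) =
        Spec.mapMulEquiv (toConv β) ≫ iT' ≫ iT ≫ jG := by
    intro R _ _ β
    rw [← hφ₀]
    ext1
    exact Spec.map_comp (CommRingCat.ofHom (φ₀ : A →ₐ[k] B).toRingHom) (CommRingCat.ofHom β.toRingHom)
  have hz : ∃ z : X ⟶ C, z ≫ c = g₀ := by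
    refine (hc X g₀).2 fun X' x h => ?_
    refine hom_ext_spec _ _ fun R _ _ y => ?_
    simp only [MonObj.comp_mul, ← Category.assoc]
    obtain ⟨ψ, hψ⟩ := exists_algHom (y ≫ x)
    obtain ⟨β, hβ⟩ := exists_algHom (y ≫ h ≫ jT)
    rw [← cancel_mono jG]
    haveI : IsMonHom jG := inferInstanceAs (IsMonHom eG.hom.hom.hom)
    simp only [MonObj.mul_comp, Category.assoc]
    rw [show g₀ ≫ jG = Spec.mapMulEquiv (toConv gD) by simp [g₀, hij]]
    have hh : y ≫ h ≫ iT ≫ jG = Spec.mapMulEquiv (toConv (β.comp (φ₀ : A →ₐ[k] B))) := by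
      rw [hTnat, show Spec.mapMulEquiv (toConv β) = y ≫ h ≫ jT from hβ.symm]
      simp only [Category.assoc, reassoc_of% hjiT]
    rw [← Category.assoc y x, hψ, hnat, hh, ← map_mul, ← map_mul]
    congr 1
    letI : Algebra K R := ((ψ : D →+* R).comp (algebraMap K D)).toAlgebra
    haveI : IsScalarTower k K R := IsScalarTower.of_algebraMap_eq fun x => by
      show _ = ψ (algebraMap K D (algebraMap k K x))
      rw [← IsScalarTower.algebraMap_apply, AlgHom.commutes]
    let ψ' : D →ₐ[K] R := { (ψ : D →+* R) with commutes' := fun _ => rfl }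
    let β' : K ⊗[k] B →ₐ[K] R := Algebra.TensorProduct.lift (Algebra.ofId K R) β (fun _ _ => Commute.all _ _)
    have h1 := (hJ D mk).1 (fun a ha => Ideal.Quotient.eq_zero_iff_mem.2 ha) R ψ'
      (β'.comp (d'.symm : AddMonoidAlgebra K M →ₐ[K] K ⊗[k] B))
    have h2 := h1.map (resPt (k := k))
    have e1 : resPt (k := k) (pmap ψ' (toConv mk)) = toConv (ψ.comp gD) := rfl
    have e2 : resPt (k := k) (toConv ((β'.comp (d'.symm : AddMonoidAlgebra K M →ₐ[K] K ⊗[k] B)).comp
        (φ : K ⊗[k] A →ₐ[K] AddMonoidAlgebra K M))) = toConv (β.comp (φ₀ : A →ₐ[k] B)) := by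
      refine WithConv.ext (AlgHom.ext fun a => ?_)
      show β' (d'.symm (d' ((1 : K) ⊗ₜ φ₀ a))) = β (φ₀ a)
      rw [BialgEquiv.symm_apply_apply]
      show algebraMap K R 1 * β (φ₀ a) = _
      rw [map_one, _root_.one_mul]
    rw [e1, e2] at h2
    exact h2.symm
  obtain ⟨z, hz⟩ := hz
  have hsurj : Function.Surjective z.left := by
    intro p
    let F := C.left.residueField p
    obtain ⟨θF, hθF⟩ := Spec.map_surjective (C.left.fromSpecResidueField p ≫ C.hom)
    letI : Algebra k F := θF.hom.toAlgebra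
    haveI : Nontrivial (K ⊗[k] F) :=
      (Algebra.TensorProduct.includeLeft_injective (S := k) (A := K) (B := F) (algebraMap k F).injective).nontrivial
    obtain ⟨m, hm⟩ := Ideal.exists_maximal (K ⊗[k] F)
    let L := (K ⊗[k] F) ⧸ m
    letI : Field L := Ideal.Quotient.field m
    let ι₂ : F →ₐ[k] L := (Ideal.Quotient.mkₐ k m).comp Algebra.TensorProduct.includeRight
    let pF : (Spec (CommRingCat.of F)).asOver S ⟶ C := Over.homMk (C.left.fromSpecResidueField p) hθF.symm
    let pL : (Spec (CommRingCat.of L)).asOver S ⟶ C := (Spec.map (CommRingCat.ofHom ι₂.toRingHom)).asOver S ≫ pF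
    obtain ⟨a, ha⟩ := exists_algHom (pL ≫ c ≫ jG)
    let g : K ⊗[k] A →ₐ[K] L := Algebra.TensorProduct.lift (Algebra.ofId K L) a (fun _ _ => Commute.all _ _)
    have hg : ∀ x ∈ J, g x = 0 := by
      refine (hJ L g).2 ?_
      intro D' _ _ ψ χ
      letI : Algebra k D' := ((algebraMap K D').comp (algebraMap k K)).toAlgebra
      haveI : IsScalarTower k K D' := IsScalarTower.of_algebraMap_eq fun _ => rfl
      apply Commute.of_map (resPt_injective (k := k))
      let β : B →ₐ[k] D' := ((χ.comp (d' : K ⊗[k] B →ₐ[K] AddMonoidAlgebra K M)).restrictScalars k).comp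
        Algebra.TensorProduct.includeRight
      have h3 := (hc _ (pL ≫ c)).1 ⟨pL, rfl⟩ _
        ((Spec.map (CommRingCat.ofHom (ψ.restrictScalars k).toRingHom)).asOver S)
        (Spec.mapMulEquiv (toConv β) ≫ iT')
      have h4 := congrArg (fun m => m ≫ jG) h3
      haveI : IsMonHom jG := inferInstanceAs (IsMonHom eG.hom.hom.hom)
      simp only [MonObj.mul_comp, Category.assoc] at h4
      rw [show pL ≫ c ≫ jG = Spec.mapMulEquiv (toConv a) from ha, hnat, ← hTnat, ← map_mul, ← map_mul] at h4
      have h5 := Spec.mapMulEquiv.injective h4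
      have e1 : resPt (k := k) (pmap ψ (toConv g)) = toConv ((ψ.restrictScalars k).comp a) := by
        refine WithConv.ext (AlgHom.ext fun x => ?_)
        show ψ (algebraMap K L 1 * a x) = ψ (a x)
        rw [map_one, _root_.one_mul]
      have e2 : resPt (k := k) (toConv (χ.comp (φ : K ⊗[k] A →ₐ[K] AddMonoidAlgebra K M))) =
          toConv (β.comp (φ₀ : A →ₐ[k] B)) := rfl
      rw [e1, e2]
      exact Commute.symm h5
    let gL : D →ₐ[K] L := Ideal.Quotient.liftₐ J g hg
    let w : (Spec (CommRingCat.of L)).asOver S ⟶ X :=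
      (Spec.map (CommRingCat.ofHom (gL.restrictScalars k).toRingHom)).asOver S
    have hw : w ≫ z = pL := by
      haveI : IsIso jG := ⟨iG, hji, hij⟩
      rw [← cancel_mono c, ← cancel_mono jG, Category.assoc, Category.assoc, reassoc_of% hz]
      simp only [g₀, Category.assoc, hij, Category.comp_id]
      rw [hnat, show pL ≫ c ≫ jG = Spec.mapMulEquiv (toConv a) from ha]
      congr 2
      refine AlgHom.ext fun x => ?_
      show algebraMap K L 1 * a x = a x
      rw [map_one, _root_.one_mul]
    refine ⟨w.left (IsLocalRing.closedPoint L), ?_⟩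
    have h6 : (w ≫ z).left (IsLocalRing.closedPoint L) = pL.left (IsLocalRing.closedPoint L) := by rw [hw]
    rw [Over.comp_left, Scheme.Hom.comp_apply] at h6
    rw [h6]
    show (Spec.map (CommRingCat.ofHom ι₂.toRingHom) ≫ C.left.fromSpecResidueField p) _ = p
    rw [Scheme.Hom.comp_apply, Scheme.fromSpecResidueField_apply]
  haveI : Nonempty (PrimeSpectrum D) := by
    obtain ⟨z₀, -⟩ := (hc (𝟙_ _) 1).2 fun X' x h => by rw [MonObj.comp_one, _root_.one_mul, _root_.mul_one]
    obtain ⟨q, -⟩ := hsurj (z₀.left (default : PrimeSpectrum k))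
    exact ⟨q⟩
  haveI : ConnectedSpace X.left := by
    show ConnectedSpace (PrimeSpectrum D)
    refine connectedSpace_iff_clopen.2 ⟨inferInstance, fun s hs => ?_⟩
    obtain ⟨f, ⟨hf, rfl⟩, -⟩ := PrimeSpectrum.existsUnique_idempotent_basicOpen_eq_of_isClopen hs
    rcases hJe f hf with rfl | rfl
    · left; rw [PrimeSpectrum.basicOpen_zero]; rfl
    · right; rw [PrimeSpectrum.basicOpen_one]; rfl
  exact hsurj.connectedSpace z.left.continuous

/-- the centralizer of a subtorus is connected -/
theorem connectedSpace_centralizer {k : Type u} [Field k] (G : Over (Spec (CommRingCat.of k))) [GrpObj G]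
    [IsAffine G.left] [Smooth G.hom] [ConnectedSpace G.left]
    (T : Over (Spec (CommRingCat.of k))) [GrpObj T] (iT : T ⟶ G) [IsMonHom iT] (hT : Red.IsTorus T)
    (C : Over (Spec (CommRingCat.of k))) [GrpObj C] (c : C ⟶ G) (hc : Red.IsCentralizerOf iT c) :
    ConnectedSpace C.left :=
  haveI := hc.2.1
  connectedSpace_centralizer' G T iT hT C c hc.2.2

end Groth.L25.Dyn
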