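import Groth.Agent.L25.Dyn.Ideals
import Groth.Prelude.Def_HopfRep
import Mathlib.LinearAlgebra.Dual.Lemmas
import Mathlib.LinearAlgebra.TensorProduct.Basis

/-!
# The subgroup of points with limit one is unipotent
-/

set_option autoImplicit false

universe u

open TensorProduct WithConv AddMonoidAlgebra

noncomputable section

namespace Groth.L25.Dyn

variable {k : Type u} [Field k] {A : Type u} [CommRing A] [HopfAlgebra k A]
  (lam : A →ₐc[k] LaurentPolynomial k) (J : Ideal A)

theorem conjOrbit_mk_mem (hJ : J = jU lam) (a : A) (ha : a ∈ J) :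
    Dyn.conjOrbit k A lam (A ⧸ J) (Ideal.Quotient.mkₐ k J) a = 0 := by
  subst hJ
  have hq : NegKill lam (Ideal.Quotient.mkₐ k (jU lam)) ∧ ZeroUnit lam (Ideal.Quotient.mkₐ k (jU lam)) :=
    (kills_jU lam _).1 fun x hx => Ideal.Quotient.eq_zero_iff_mem.2 hx
  refine (sup_le (Ideal.span_le.2 ?_) (Ideal.span_le.2 ?_) :
    jU lam ≤ RingHom.ker (Dyn.conjOrbit k A lam (A ⧸ jU lam) (Ideal.Quotient.mkₐ k (jU lam)))) ha
  · rintro x ⟨n, hn, hx⟩
    show Dyn.conjOrbit k A lam _ _ x = 0
    rw [hx.conjOrbit, hq.1 n hn x hx, single_zero]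
  · rintro x ⟨y, hy, rfl⟩
    show Dyn.conjOrbit k A lam _ _ (y - algebraMap k A _) = 0
    rw [map_sub, hy.conjOrbit, (hom_algebraMap lam (Coalgebra.counit (R := k) y)).conjOrbit, hq.2 y hy,
      AlgHom.commutes, sub_self]

/-- the component of degree `n` on the quotient -/
def qpr (hJ : J = jU lam) (n : ℤ) : A ⧸ J →ₗ[k] A ⧸ J where
  toFun b := (Ideal.Quotient.liftₐ J (Dyn.conjOrbit k A lam (A ⧸ J) (Ideal.Quotient.mkₐ k J))
    (conjOrbit_mk_mem lam J hJ) b).coeff n
  map_add' a b := by rw [map_add, AddMonoidAlgebra.coeff_add]; rfl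
  map_smul' r a := by rw [map_smul, AddMonoidAlgebra.coeff_smul]; rfl

theorem qpr_mk (hJ : J = jU lam) (n : ℤ) (a : A) :
    qpr lam J hJ n (Ideal.Quotient.mkₐ k J a) = Ideal.Quotient.mkₐ k J (pr lam n a) :=
  coeff_conjOrbit lam (Ideal.Quotient.mkₐ k J) a n

theorem qpr_zero (hJ : J = jU lam) [J.IsHopfIdeal k] (b : A ⧸ J) :
    qpr lam J hJ 0 b = Coalgebra.counit (R := k) b • (1 : A ⧸ J) := by
  obtain ⟨a, rfl⟩ : ∃ a, Ideal.Quotient.mkₐ k J a = b := Ideal.Quotient.mk_surjective b
  have h : ZeroUnit lam (Ideal.Quotient.mkₐ k J) :=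
    ((kills_jU lam _).1 fun x hx => Ideal.Quotient.eq_zero_iff_mem.2 (hJ ▸ hx)).2
  rw [qpr_mk, h _ (hom_pr lam 0 a), counit_pr_zero, Algebra.algebraMap_eq_smul_one]
  rfl

theorem qpr_neg (hJ : J = jU lam) {n : ℤ} (hn : n < 0) (b : A ⧸ J) : qpr lam J hJ n b = 0 := by
  obtain ⟨a, rfl⟩ : ∃ a, Ideal.Quotient.mkₐ k J a = b := Ideal.Quotient.mk_surjective b
  rw [qpr_mk]
  exact ((kills_jU lam _).1 fun x hx => Ideal.Quotient.eq_zero_iff_mem.2 (hJ ▸ hx)).1 n hn _ (hom_pr lam n a)

theorem exists_bound (hJ : J = jU lam) (b : A ⧸ J) :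
    ∃ N : ℕ, (∀ n : ℕ, N < n → qpr lam J hJ n b = 0) ∧
      ∑ n ∈ Finset.range (N + 1), qpr lam J hJ n b = b := by
  obtain ⟨a, rfl⟩ : ∃ a, Ideal.Quotient.mkₐ k J a = b := Ideal.Quotient.mk_surjective b
  let s := (cO lam a).coeff.support
  refine ⟨s.sup Int.natAbs, fun n hn => ?_, ?_⟩
  · have : pr lam (n : ℤ) a = 0 := by
      refine Finsupp.notMem_support_iff.1 fun h => ?_
      have := Finset.le_sup (f := Int.natAbs) h
      simp only [Int.natAbs_natCast] at this
      simp only [s] at hn
      omega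
    rw [qpr_mk, this, map_zero]
  · conv_rhs => rw [← sum_pr lam a, map_sum]
    simp only [qpr_mk]
    rw [← Finset.sum_filter_of_ne (p := fun n : ℤ => 0 ≤ n) (s := s) fun n _ hne => by
      by_contra h
      exact hne ((qpr_mk lam J hJ n a).symm.trans (qpr_neg lam J hJ (by omega) _))]
    refine (Finset.sum_bij_ne_zero (fun n _ _ => n.toNat) (fun n hn _ => ?_) (fun n hn _ m hm _ h => ?_)
      (fun m _ hne => ?_) (fun n hn _ => ?_)).symm
    · have := Finset.le_sup (f := Int.natAbs) (Finset.mem_filter.1 hn).1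
      have := (Finset.mem_filter.1 hn).2
      simp only [Finset.mem_range]
      omega
    · have := (Finset.mem_filter.1 hn).2
      have := (Finset.mem_filter.1 hm).2
      omega
    · refine ⟨m, Finset.mem_filter.2 ⟨Finsupp.mem_support_iff.2 fun h => hne ?_, by omega⟩, hne, by simp⟩
      rw [show pr lam (m : ℤ) a = 0 from h, map_zero]
    · rw [Int.toNat_of_nonneg (Finset.mem_filter.1 hn).2]

theorem comul_qpr [J.IsHopfIdeal k] (hJ : J = jU lam) (p q : ℤ) (b : A ⧸ J) :
    TensorProduct.map (qpr lam J hJ p) (qpr lam J hJ q) (Coalgebra.comul (R := k) b) =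
      TensorProduct.map (qpr lam J hJ p) (qpr lam J hJ q) (Coalgebra.comul (R := k) (qpr lam J hJ (p + q) b)) := by
  classical
  obtain ⟨a, rfl⟩ : ∃ a, Ideal.Quotient.mkₐ k J a = b := Ideal.Quotient.mk_surjective b
  have hΔ : ∀ c : A, Coalgebra.comul (R := k) (Ideal.Quotient.mkₐ k J c) =
      TensorProduct.map (Ideal.Quotient.mkₐ k J).toLinearMap (Ideal.Quotient.mkₐ k J).toLinearMap
        (Coalgebra.comul (R := k) c) := fun c => rfl
  have key : ∀ (n : ℤ) (c : A), Hom lam n c → n ≠ p + q →
      TensorProduct.map (qpr lam J hJ p) (qpr lam J hJ q) (Coalgebra.comul (R := k) (Ideal.Quotient.mkₐ k J c)) = 0 := by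
    intro n c hc hne
    obtain ⟨ι, s, x, y, P, Q, hxy, hs⟩ := exists_repr lam hc
    rw [hΔ, hxy, map_sum, map_sum]
    refine Finset.sum_eq_zero fun i hi => ?_
    obtain ⟨hpq, hx, hy⟩ := hs i hi
    rw [TensorProduct.map_tmul, TensorProduct.map_tmul, AlgHom.toLinearMap_apply, AlgHom.toLinearMap_apply,
      qpr_mk, qpr_mk, hx.pr_eq, hy.pr_eq]
    by_cases h1 : P i = p
    · rw [if_neg (show Q i ≠ q by omega), map_zero, tmul_zero]
    · rw [if_neg h1, map_zero, zero_tmul]
  rw [qpr_mk]
  conv_lhs => rw [← sum_pr lam a, map_sum, map_sum, map_sum]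
  rw [Finset.sum_eq_single (p + q) (fun n _ hne => key n _ (hom_pr lam n a) hne)]
  intro h
  rw [show pr lam (p + q) a = 0 from Finsupp.notMem_support_iff.1 h, map_zero, map_zero, map_zero]

theorem isUnipotent_quotient [J.IsHopfIdeal k] (hJ : J = jU lam) : HopfRep.IsUnipotent k (A ⧸ J) := by
  classical
  intro V _ _ _ _ hV
  let B := A ⧸ J
  let co : V →ₗ[k] V ⊗[k] B := HopfRep.Comod.coact (k := k) (A := B)
  let ρ : ℤ → V →ₗ[k] V ⊗[k] B := fun n => (qpr lam J hJ n).lTensor V ∘ₗ co
  have h0 : ∀ v, ρ 0 v = v ⊗ₜ 1 := by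
    intro v
    have h := LinearMap.congr_fun (HopfRep.Comod.counit_comp (k := k) (A := B) (V := V)) v
    have e : ∀ w : V ⊗[k] B, (qpr lam J hJ 0).lTensor V w =
        (LinearMap.toSpanSingleton k B 1).lTensor V ((Coalgebra.counit (R := k) (A := B)).lTensor V w) := by
      intro w
      induction w using TensorProduct.induction_on with
      | zero => simp
      | add x y hx hy => simp only [map_add, hx, hy]
      | tmul x b => simp [qpr_zero lam J hJ] <;> rfl
    show (qpr lam J hJ 0).lTensor V (co v) = _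
    rw [e]
    refine (congrArg ((LinearMap.toSpanSingleton k B 1).lTensor V) h).trans ?_
    simp
  have hb : ∀ v, ∃ N : ℕ, (∀ n : ℕ, N < n → ρ n v = 0) ∧ ∑ n ∈ Finset.range (N + 1), ρ n v = co v := by
    intro v
    obtain ⟨S, hS⟩ := TensorProduct.exists_finset (co v)
    choose Nf hN1 hN2 using exists_bound lam J hJ
    let N := S.sup fun i => Nf i.2
    refine ⟨N, fun n hn => ?_, ?_⟩
    · show (qpr lam J hJ n).lTensor V (co v) = 0
      rw [hS, map_sum]
      refine Finset.sum_eq_zero fun i hi => ?_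
      rw [LinearMap.lTensor_tmul, hN1 i.2 n (lt_of_le_of_lt (Finset.le_sup (f := fun i => Nf i.2) hi) hn), tmul_zero]
    · show ∑ n ∈ Finset.range (N + 1), (qpr lam J hJ n).lTensor V (co v) = co v
      conv_rhs => rw [hS]
      rw [hS]
      simp only [map_sum, LinearMap.lTensor_tmul]
      rw [Finset.sum_comm]
      refine Finset.sum_congr rfl fun i hi => ?_
      rw [← TensorProduct.tmul_sum]
      congr 1
      conv_rhs => rw [← hN2 i.2]
      refine (Finset.sum_subset (f := fun n : ℕ => qpr lam J hJ (n : ℤ) i.2)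
        (Finset.range_mono (Nat.succ_le_succ (Finset.le_sup (f := fun i => Nf i.2) hi))) ?_).symm
      intro n _ hn
      exact hN1 i.2 n (by simp only [Finset.mem_range] at hn; omega)
  have fixed : ∀ v, (∀ n : ℕ, 0 < n → ρ n v = 0) → v ∈ HopfRep.fixedPts k B V := by
    intro v hv
    obtain ⟨N, -, hN⟩ := hb v
    show co v = v ⊗ₜ 1
    rw [← hN, Finset.sum_eq_single 0 (fun n _ hn => hv n (Nat.pos_of_ne_zero hn)) (fun h => absurd (Finset.mem_range.2 N.succ_pos) h)]
    exact h0 v
  have main : ∀ (N : ℕ) (v : V), v ≠ 0 → (∀ n : ℕ, N < n → ρ n v = 0) → ∃ w, w ≠ 0 ∧ w ∈ HopfRep.fixedPts k B V := by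
    intro N
    induction N with
    | zero => exact fun v hv h => ⟨v, hv, fixed v h⟩
    | succ N ih =>
      intro v hv h
      by_cases hz : ρ (N + 1 : ℕ) v = 0
      · exact ih v hv fun n hn => by
          rcases lt_or_eq_of_le (Nat.succ_le_of_lt hn) with h' | h'
          · exact h n h'
          · rw [← h']; exact hz
      have key : ∀ p : ℕ, 0 < p → (ρ p).rTensor B (ρ (N + 1 : ℕ) v) = 0 := by
        intro p hp
        let q : ℤ := (N + 1 : ℕ)
        let m := TensorProduct.map (qpr lam J hJ p) (qpr lam J hJ q)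
        have e1 : ∀ w : V ⊗[k] B, (TensorProduct.assoc k V B B) ((ρ p).rTensor B ((qpr lam J hJ q).lTensor V w)) =
            m.lTensor V ((TensorProduct.assoc k V B B) (co.rTensor B w)) := by
          intro w
          induction w using TensorProduct.induction_on with
          | zero => simp
          | add x y hx hy => simp only [map_add, hx, hy]
          | tmul x b =>
            simp only [LinearMap.lTensor_tmul, LinearMap.rTensor_tmul]
            show (TensorProduct.assoc k V B B) ((qpr lam J hJ p).lTensor V (co x) ⊗ₜ _) = _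
            generalize co x = y
            induction y using TensorProduct.induction_on with
            | zero => simp
            | add y z hy hz => simp only [map_add, TensorProduct.add_tmul, hy, hz]
            | tmul y c => simp [m]
        apply (TensorProduct.assoc k V B B).injective
        rw [map_zero]
        show (TensorProduct.assoc k V B B) ((ρ p).rTensor B ((qpr lam J hJ q).lTensor V (co v))) = 0
        rw [e1, show (TensorProduct.assoc k V B B) (co.rTensor B (co v)) =
          (Coalgebra.comul (R := k) (A := B)).lTensor V (co v) from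
            LinearMap.congr_fun (HopfRep.Comod.coassoc (k := k) (A := B) (V := V)) v,
          ← LinearMap.comp_apply, ← LinearMap.lTensor_comp]
        have e2 : m ∘ₗ (Coalgebra.comul (R := k) (A := B)) =
            (m ∘ₗ (Coalgebra.comul (R := k) (A := B))) ∘ₗ qpr lam J hJ ((p + (N + 1) : ℕ)) :=
          LinearMap.ext fun b => by
            rw [LinearMap.comp_apply, comul_qpr]
            rfl
        rw [e2, LinearMap.lTensor_comp, LinearMap.comp_apply]
        show (m ∘ₗ (Coalgebra.comul (R := k) (A := B))).lTensor V ((ρ ((p + (N + 1) : ℕ))) v) = 0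
        rw [h _ (by omega), map_zero]
      let b := Module.Free.chooseBasis k B
      have hne : ∃ i, TensorProduct.rid k V ((b.coord i).lTensor V (ρ (N + 1 : ℕ) v)) ≠ 0 := by
        by_contra hall
        push_neg at hall
        refine hz ((TensorProduct.equivFinsuppOfBasisRight b).injective ?_)
        rw [map_zero]
        refine Finsupp.ext fun i => ?_
        have h1 : ∀ w : V ⊗[k] B, (TensorProduct.equivFinsuppOfBasisRight b w) i =
            TensorProduct.rid k V ((b.coord i).lTensor V w) := by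
          intro w
          induction w using TensorProduct.induction_on with
          | zero => simp
          | add x y hx hy => simp only [map_add, Finsupp.add_apply, hx, hy]
          | tmul x c => simp [TensorProduct.equivFinsuppOfBasisRight_apply_tmul_apply]
        rw [h1, hall]
        rfl
      obtain ⟨i, hi⟩ := hne
      refine ⟨_, hi, fixed _ fun p hp => ?_⟩
      have e3 : ∀ w : V ⊗[k] B, ρ p (TensorProduct.rid k V ((b.coord i).lTensor V w)) =
          TensorProduct.rid k (V ⊗[k] B) ((b.coord i).lTensor (V ⊗[k] B) ((ρ p).rTensor B w)) := by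
        intro w
        induction w using TensorProduct.induction_on with
        | zero => simp
        | add x y hx hy => simp only [map_add, hx, hy]
        | tmul x c => simp
      rw [e3, key p hp, map_zero, map_zero]
  obtain ⟨v, hv⟩ := exists_ne (0 : V)
  obtain ⟨N, hN, -⟩ := hb v
  obtain ⟨w, hw, hwf⟩ := main N v hv hN
  exact fun h => hw ((Submodule.mem_bot k).1 (h ▸ hwf))

end Groth.L25.Dyn
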