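import Groth.Agent.L25.Dyn.Decomp
import Groth.Agent.L25.ConnIrred
import Mathlib.AlgebraicGeometry.Group.Affine
import Mathlib.RingTheory.Spectrum.Prime.Topology

/-!
# The big cell over a field, and connectedness
-/

set_option autoImplicit false

universe u

open TensorProduct WithConv AddMonoidAlgebra CategoryTheory AlgebraicGeometry

noncomputable section

namespace Groth.L25.Dyn

theorem eq_C_of_isIdempotentElem {R : Type*} [CommRing R] {p : Polynomial R} (hp : IsIdempotentElem p) :
    p = Polynomial.C (p.coeff 0) := by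
  have hc : IsIdempotentElem (Polynomial.C (p.coeff 0)) := by
    have h := congrArg (fun r => r.coeff 0) hp.eq
    simp only [Polynomial.mul_coeff_zero] at h
    show _ * _ = _
    rw [← map_mul, h]
  let q := p - Polynomial.C (p.coeff 0)
  have h3 : q * q * q = q := by
    show (p - _) * (p - _) * (p - _) = p - _
    linear_combination (p + 1 - 3 * Polynomial.C (p.coeff 0)) * hp.eq + (3 * p - 1 - Polynomial.C (p.coeff 0)) * hc.eq
  have hn : ∀ n : ℕ, Polynomial.X ^ (n + 1) ∣ q := by
    intro n
    induction n with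
    | zero => rw [pow_one, Polynomial.X_dvd_iff]; simp [q]
    | succ n ih =>
      obtain ⟨r, hr⟩ := ih
      have h0 : Polynomial.X ∣ q := by rw [Polynomial.X_dvd_iff]; simp [q]
      rw [← h3, pow_succ, mul_assoc]
      exact mul_dvd_mul ⟨r, hr⟩ (h0.mul_right q)
  refine sub_eq_zero.1 (Polynomial.ext fun n => ?_)
  rw [Polynomial.coeff_zero]
  exact Polynomial.X_pow_dvd_iff.1 (hn n) n (Nat.lt_succ_self n)

section Ring

variable {k : Type u} [CommRing k] {A : Type u} [CommRing A] [HopfAlgebra k A]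
  (lam : A →ₐc[k] LaurentPolynomial k)

/-- the opposite one-parameter subgroup -/
theorem exists_neg : ∃ lamNeg : A →ₐc[k] LaurentPolynomial k,
    (lamNeg : A →ₐ[k] LaurentPolynomial k) = Dyn.negParam k A lam := by
  have hinv : ∀ n : ℤ, LaurentPolynomial.invert (single n (1 : k) : LaurentPolynomial k) = single (-n) 1 := fun n => by
    ext m
    rw [LaurentPolynomial.invert_apply, coeff_single, coeff_single, Finsupp.single_apply, Finsupp.single_apply]
    split_ifs <;> first | rfl | (exfalso; omega)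
  have hΔ : ∀ n : ℤ, Coalgebra.comul (R := k) (single n (1 : k) : LaurentPolynomial k) = single n 1 ⊗ₜ single n 1 :=
    fun n => LaurentPolynomial.comul_T n
  let inv : LaurentPolynomial k →ₐc[k] LaurentPolynomial k :=
    BialgHom.ofAlgHom (LaurentPolynomial.invert (R := k)).toAlgHom
      (AddMonoidAlgebra.algHom_ext (fun n => by
        show Coalgebra.counit (R := k) (LaurentPolynomial.invert (single n (1 : k) : LaurentPolynomial k)) =
          Coalgebra.counit (R := k) (single n (1 : k) : LaurentPolynomial k)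
        rw [hinv, AddMonoidAlgebra.counit_single, AddMonoidAlgebra.counit_single]) (Subsingleton.elim _ _))
      (AddMonoidAlgebra.algHom_ext (fun n => by
        show TensorProduct.map (LaurentPolynomial.invert (R := k)).toLinearMap
          (LaurentPolynomial.invert (R := k)).toLinearMap (Coalgebra.comul (R := k) (single n (1 : k) : LaurentPolynomial k)) =
          Coalgebra.comul (R := k) (LaurentPolynomial.invert (single n (1 : k) : LaurentPolynomial k))
        rw [hΔ, hinv, hΔ, TensorProduct.map_tmul]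
        exact congrArg₂ (· ⊗ₜ[k] ·) (hinv n) (hinv n)) (Subsingleton.elim _ _))
  exact ⟨inv.comp lam, rfl⟩

/-- an idempotent of a homogeneous quotient comes from degree zero -/
theorem mk_idem {J : Ideal A} (S : Set A) (hJ : J = Ideal.span S) (hS : ∀ x ∈ S, ∃ n, Hom lam n x)
    (hneg : NegKill lam (Ideal.Quotient.mkₐ k J)) {a : A} (ha : IsIdempotentElem (Ideal.Quotient.mkₐ k J a)) :
    Ideal.Quotient.mkₐ k J a = Ideal.Quotient.mkₐ k J (pr lam 0 a) := by
  let q := Ideal.Quotient.mkₐ k J
  obtain ⟨h, hh⟩ := (limExists_iff lam q).2 hneg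
  have hker : ∀ x ∈ J, h x = 0 := by
    intro x hx
    refine inclP_injective (k := k) ((DFunLike.congr_fun hh x).trans ?_)
    rw [map_zero]
    refine (?_ : J ≤ RingHom.ker (Dyn.conjOrbit k A lam (A ⧸ J) q)) hx
    refine le_of_eq_of_le hJ (Ideal.span_le.2 ?_)
    intro y hy
    obtain ⟨n, hn⟩ := hS y hy
    show Dyn.conjOrbit k A lam _ q y = 0
    rw [hn.conjOrbit, show q y = 0 from Ideal.Quotient.eq_zero_iff_mem.2 (hJ ▸ Ideal.subset_span hy), single_zero]
  have hev : Polynomial.eval 1 (h a) = q a := by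
    have e1 : ev1 (k := k) (A ⧸ J) (Dyn.conjOrbit k A lam _ q a) = q a := by
      rw [← sum_pr lam a, map_sum, map_sum, map_sum]
      exact Finset.sum_congr rfl fun n _ => by rw [(hom_pr lam n a).conjOrbit, ev1_single]
    rw [← e1, ← DFunLike.congr_fun hh a]
    show _ = ev1 (k := k) (A ⧸ J) (inclP (k := k) (A ⧸ J) (h a))
    induction h a using Polynomial.induction_on' with
    | add p r hp hr => simp only [Polynomial.eval_add, map_add, hp, hr]
    | monomial n c =>
      rw [Polynomial.eval_monomial, one_pow, _root_.mul_one, ← Polynomial.C_mul_X_pow_eq_monomial]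
      show _ = ev1 (k := k) (A ⧸ J) (Polynomial.toLaurent _)
      rw [Polynomial.toLaurent_C_mul_X_pow, ← LaurentPolynomial.single_eq_C_mul_T, ev1_single]
  have hid : IsIdempotentElem (h a) := by
    have h1 : h (a * a - a) = 0 := hker _ (Ideal.Quotient.eq.1 ((map_mul q a a).trans ha))
    rw [map_sub, map_mul, sub_eq_zero] at h1
    exact h1
  obtain ⟨c, hc⟩ : ∃ c, h a = Polynomial.C c := by
    exact ⟨_, eq_C_of_isIdempotentElem hid⟩
  have h0 : Polynomial.eval 0 (h a) = q (pr lam 0 a) := eval_zero lam q h hh a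
  rw [hc, Polynomial.eval_C] at hev h0
  exact hev.symm.trans h0

end Ring

variable {k : Type u} [Field k] {A : Type u} [CommRing A] [HopfAlgebra k A]
  (lam : A →ₐc[k] LaurentPolynomial k)

theorem idem_quotient_jU (J : Ideal A) (hJ : J = jU lam) :
    ∀ e : A ⧸ J, IsIdempotentElem e → e = 0 ∨ e = 1 := by
  intro e he
  subst hJ
  obtain ⟨a, rfl⟩ : ∃ a, Ideal.Quotient.mkₐ k (jU lam) a = e := Ideal.Quotient.mk_surjective e
  obtain ⟨hn, h0⟩ := (kills_jU lam (Ideal.Quotient.mkₐ k (jU lam))).1 fun x hx => Ideal.Quotient.eq_zero_iff_mem.2 hx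
  have h1 := mk_idem lam ({a | ∃ n : ℤ, n < 0 ∧ Hom lam n a} ∪
    {a | ∃ x, Hom lam 0 x ∧ a = x - algebraMap k A (Coalgebra.counit (R := k) x)})
    (by rw [Ideal.span_union]; rfl) (by
      rintro x (⟨n, -, hx⟩ | ⟨y, hy, rfl⟩)
      · exact ⟨n, hx⟩
      · refine ⟨0, ?_⟩
        show cO lam _ = _
        rw [map_sub, show cO lam y = single 0 y from hy, show cO lam _ = _ from hom_algebraMap lam _, single_sub]) hn he
  rw [h1, h0 _ (hom_pr lam 0 a)] at he ⊢
  have hnt : Nontrivial (A ⧸ jU lam) := by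
    let ε : A ⧸ jU lam →ₐ[k] k := Ideal.Quotient.liftₐ (jU lam) (Bialgebra.counitAlgHom k A)
      ((represents_jU lam k (Bialgebra.counitAlgHom k A)).2 (limIsOne_one lam))
    exact ε.toRingHom.domain_nontrivial
  have hc : IsIdempotentElem (Coalgebra.counit (R := k) (pr lam 0 a)) := by
    apply (algebraMap k (A ⧸ jU lam)).injective
    rw [map_mul]; exact he
  rcases (IsIdempotentElem.iff_eq_zero_or_one).1 hc with h | h <;> rw [h]
  · exact Or.inl (map_zero _)
  · exact Or.inr (map_one _)

theorem idem_quotient_jPlus [Algebra.FiniteType k A] (J : Ideal A) (hJ : J = jPlus lam)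
    (hA : ∀ e : A, IsIdempotentElem e → e = 0 ∨ e = 1) :
    ∀ e : A ⧸ J, IsIdempotentElem e → e = 0 ∨ e = 1 := by
  intro e he
  subst hJ
  haveI : Algebra.FinitePresentation k A := Algebra.FinitePresentation.of_finiteType.1 inferInstance
  obtain ⟨lamNeg, hneg⟩ := exists_neg lam
  let Jm := jU lamNeg
  let Jp := jPlus lam
  have hU : ∀ {R : Type u} [CommRing R] [Algebra k R] (x : Pt (k := k) A R),
      Dyn.LimIsOne k A lamNeg R x.ofConv ↔ InU (gcA lam R) (lp x) := by
    intro R _ _ x
    rw [limIsOne_iff]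
    constructor
    · rintro ⟨h1, h2⟩
      refine ⟨fun n hn c hc => h1 (-n) (by omega) c ?_, fun c hc => h2 c ?_⟩
      · rw [hom_neg lam lamNeg hneg, neg_neg]; exact hc
      · rw [hom_neg lam lamNeg hneg, neg_zero]; exact hc
    · rintro ⟨h1, h2⟩
      refine ⟨fun n hn c hc => h1 (-n) (by omega) c ?_, fun c hc => h2 c ?_⟩
      · exact (hom_neg lam lamNeg hneg n c).1 hc
      · have h := (hom_neg lam lamNeg hneg 0 c).1 hc
        rwa [neg_zero] at h
  have hP : ∀ {R : Type u} [CommRing R] [Algebra k R] (x : Pt (k := k) A R),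
      Dyn.LimExists k A lam R x.ofConv ↔ InP (gcA lam R) (lp x) := fun x => limExists_iff lam x.ofConv
  haveI hoi : IsOpenImmersion (Spec.map (CommRingCat.ofHom (mulHom (k := k) Jm Jp).toRingHom)) := by
    refine isOpenImmersion_mulHom lam lamNeg hneg (represents_jPlus lam) (represents_jU lamNeg)
      (fg_jPlus lamNeg).2 (fg_jPlus lam).1 (fun {B} _ _ K hK g φ hφ => ?_)
    have h1 := (represents_jU lamNeg _ _).1 (fst_kills φ)
    have h2 := (represents_jPlus lam _ _).1 (snd_kills φ)
    obtain ⟨u, p, hu, hp', -, hue, hpe⟩ := exists_decomp lam hK (toConv g) (fstPt φ) (sndPt φ)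
      ((hU _).1 h1) ((hU _).1 (LimIsOne.inv lamNeg h1)) ((hP _).1 h2) ((hP _).1 (LimExists.inv lam h2))
      (by rw [← comp_mulHom, hφ]; rfl)
    exact ⟨⟨u, (represents_jU lamNeg _ _).2 ((hU u).2 hu), hue⟩,
      ⟨p, (represents_jPlus lam _ _).2 ((hP p).2 hp'), hpe⟩⟩
  haveI : Nontrivial A := (Bialgebra.counitAlgHom k A).toRingHom.domain_nontrivial
  let G : Over (Spec (CommRingCat.of k)) := (Spec (CommRingCat.of A)).asOver (Spec (CommRingCat.of k))
  haveI : ConnectedSpace G.left := by
    show ConnectedSpace (PrimeSpectrum A)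
    refine connectedSpace_iff_clopen.2 ⟨inferInstance, fun s hs => ?_⟩
    obtain ⟨f, ⟨hf, rfl⟩, -⟩ := PrimeSpectrum.existsUnique_idempotent_basicOpen_eq_of_isClopen hs
    rcases hA f hf with rfl | rfl
    · left; rw [PrimeSpectrum.basicOpen_zero]; rfl
    · right; rw [PrimeSpectrum.basicOpen_one]; rfl
  haveI : IrreducibleSpace (PrimeSpectrum A) := ConnIrred.irreducibleSpace G
  let T := (A ⧸ Jm) ⊗[k] (A ⧸ Jp)
  let f := Spec.map (CommRingCat.ofHom (mulHom (k := k) Jm Jp).toRingHom)
  haveI : PreconnectedSpace (PrimeSpectrum T) := by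
    refine ⟨?_⟩
    have h := IsPreirreducible.open_subset (PreirreducibleSpace.isPreirreducible_univ (X := PrimeSpectrum A))
      f.isOpenEmbedding.isOpen_range (Set.subset_univ _)
    have h2 := h.isPreconnected.preimage_of_isOpenMap f.isOpenEmbedding.injective f.isOpenEmbedding.isOpenMap subset_rfl
    exact (Set.preimage_range (f := f)) ▸ h2
  let e' : T := (Algebra.TensorProduct.includeRight : A ⧸ Jp →ₐ[k] T) e
  have he' : IsIdempotentElem e' := he.map _
  let ε : A ⧸ Jm →ₐ[k] k := Ideal.Quotient.liftₐ Jm (Bialgebra.counitAlgHom k A)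
    ((represents_jU lamNeg k (Bialgebra.counitAlgHom k A)).2 (limIsOne_one lamNeg))
  let θ : T →ₐ[k] A ⧸ Jp :=
    Algebra.TensorProduct.lift ((Algebra.ofId k (A ⧸ Jp)).comp ε) (AlgHom.id k _) (fun _ _ => Commute.all _ _)
  have hθ : θ e' = e := by
    show θ (1 ⊗ₜ[k] e) = e
    rw [Algebra.TensorProduct.lift_tmul, map_one, _root_.one_mul]
    rfl
  have hs : IsClopen ((PrimeSpectrum.basicOpen e' : Set (PrimeSpectrum T))) := by
    refine PrimeSpectrum.isClopen_iff_mul_add.2 ⟨e', 1 - e', ?_, add_sub_cancel _ _, rfl⟩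
    rw [mul_sub, _root_.mul_one, he'.eq, sub_self]
  rcases isClopen_iff.1 hs with h | h
  · left
    have : e' = 0 := PrimeSpectrum.basicOpen_injOn_isIdempotentElem he' IsIdempotentElem.zero
      (SetLike.ext' (h.trans (by rw [PrimeSpectrum.basicOpen_zero]; rfl)))
    rw [← hθ, this, map_zero]
  · right
    have : e' = 1 := PrimeSpectrum.basicOpen_injOn_isIdempotentElem he' IsIdempotentElem.one
      (SetLike.ext' (h.trans (by rw [PrimeSpectrum.basicOpen_one]; rfl)))
    rw [← hθ, this, map_one]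

end Groth.L25.Dyn
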