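import Groth.Agent.L25.Dyn.Open
import Mathlib.RingTheory.Coalgebra.TensorProduct
import Mathlib.RingTheory.Coalgebra.Convolution
import Mathlib.Tactic.Abel
import Mathlib.Algebra.Module.Projective
import Mathlib.Algebra.Module.Submodule.Ker

/-!
# Decomposition of points near the big cell, without smoothness
-/

set_option autoImplicit false

universe u

open TensorProduct WithConv AddMonoidAlgebra

noncomputable section

namespace Groth.L25.Dyn

section Graded

variable {k : Type u} [CommRing k] {C : Type u} [AddCommGroup C] [Module k C] [Coalgebra k C]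
  {B : Type u} [CommRing B] [Algebra k B]

/-- a coalgebra with a grading, given by its homogeneous elements -/
structure GC (k : Type u) [CommRing k] (C : Type u) [AddCommGroup C] [Module k C] [Coalgebra k C]
    (B : Type u) [CommRing B] [Algebra k B] where
  /-- homogeneous elements -/
  H : ℤ → C → Prop
  ext : ∀ (f g : C →ₗ[k] B), (∀ n c, H n c → f c = g c) → f = g
  repr : ∀ n c, H n c → ∃ (ι : Type u) (s : Finset ι) (x y : ι → C) (p q : ι → ℤ),
    Coalgebra.comul (R := k) c = ∑ i ∈ s, x i ⊗ₜ y i ∧ ∀ i ∈ s, p i + q i = n ∧ H (p i) (x i) ∧ H (q i) (y i)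
  counit_zero : ∀ n c, H n c → n ≠ 0 → Coalgebra.counit (R := k) c = 0

theorem conv_apply_sum (f g : WithConv (C →ₗ[k] B)) {a : C} {ι : Type*} (s : Finset ι) (x y : ι → C)
    (h : Coalgebra.comul (R := k) a = ∑ i ∈ s, x i ⊗ₜ y i) :
    (f * g).ofConv a = ∑ i ∈ s, f.ofConv (x i) * g.ofConv (y i) := by
  simp only [LinearMap.convMul_def, LinearMap.comp_apply, WithConv.ofConv_toConv, h, map_sum,
    TensorProduct.map_tmul, LinearMap.mul'_apply]

variable (G : GC k C B)

/-- vanishing on negative degrees -/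
def InP (f : WithConv (C →ₗ[k] B)) : Prop := ∀ n : ℤ, n < 0 → ∀ c, G.H n c → f.ofConv c = 0

/-- vanishing on positive degrees and equal to the counit in degree zero -/
def InU (f : WithConv (C →ₗ[k] B)) : Prop :=
  (∀ n : ℤ, 0 < n → ∀ c, G.H n c → f.ofConv c = 0) ∧
    ∀ c, G.H 0 c → f.ofConv c = algebraMap k B (Coalgebra.counit (R := k) c)

theorem inP_one : InP G 1 := fun n hn c hc => by
  show algebraMap k B (Coalgebra.counit (R := k) c) = 0
  rw [G.counit_zero n c hc hn.ne, map_zero]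

theorem inU_one : InU G 1 :=
  ⟨fun n hn c hc => by
    show algebraMap k B (Coalgebra.counit (R := k) c) = 0
    rw [G.counit_zero n c hc hn.ne', map_zero], fun _ _ => rfl⟩

variable {G}

theorem InP.mul {f g : WithConv (C →ₗ[k] B)} (hf : InP G f) (hg : InP G g) : InP G (f * g) := by
  intro n hn c hc
  obtain ⟨ι, s, x, y, p, q, hΔ, hs⟩ := G.repr n c hc
  rw [conv_apply_sum _ _ s x y hΔ]
  refine Finset.sum_eq_zero fun i hi => ?_
  obtain ⟨hpq, hx, hy⟩ := hs i hi
  by_cases h : p i < 0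
  · rw [hf _ h _ hx, zero_mul]
  · rw [hg _ (by omega) _ hy, mul_zero]

theorem InU.mul {f g : WithConv (C →ₗ[k] B)} (hf : InU G f) (hg : InU G g) : InU G (f * g) := by
  refine ⟨fun n hn c hc => ?_, fun c hc => ?_⟩
  · obtain ⟨ι, s, x, y, p, q, hΔ, hs⟩ := G.repr n c hc
    rw [conv_apply_sum _ _ s x y hΔ]
    refine Finset.sum_eq_zero fun i hi => ?_
    obtain ⟨hpq, hx, hy⟩ := hs i hi
    by_cases h : 0 < p i
    · rw [hf.1 _ h _ hx, zero_mul]
    · rw [hg.1 _ (by omega) _ hy, mul_zero]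
  · obtain ⟨ι, s, x, y, p, q, hΔ, hs⟩ := G.repr 0 c hc
    rw [show algebraMap k B (Coalgebra.counit (R := k) c) =
      ((1 : WithConv (C →ₗ[k] B)) * 1).ofConv c from by rw [_root_.one_mul]; rfl,
      conv_apply_sum _ _ s x y hΔ, conv_apply_sum _ _ s x y hΔ]
    refine Finset.sum_congr rfl fun i hi => ?_
    obtain ⟨hpq, hx, hy⟩ := hs i hi
    show _ = algebraMap k B (Coalgebra.counit (R := k) (x i)) * algebraMap k B (Coalgebra.counit (R := k) (y i))
    rcases lt_trichotomy (p i) 0 with h | h | h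
    · rw [hg.1 _ (by omega) _ hy, G.counit_zero _ _ hx h.ne, map_zero, zero_mul, mul_zero]
    · rw [hf.2 _ (h ▸ hx), hg.2 _ (show q i = 0 by omega ▸ hy)]
    · rw [hf.1 _ h _ hx, G.counit_zero _ _ hx h.ne', map_zero, zero_mul, zero_mul]

theorem eq_one_of_inU_inP {f : WithConv (C →ₗ[k] B)} (hU : InU G f) (hP : InP G f) : f = 1 := by
  refine WithConv.ext (G.ext _ _ fun n c hc => ?_)
  show f.ofConv c = algebraMap k B (Coalgebra.counit (R := k) c)
  rcases lt_trichotomy n 0 with h | h | h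
  · rw [hP n h c hc, G.counit_zero n c hc h.ne, map_zero]
  · exact hU.2 c (h ▸ hc)
  · rw [hU.1 n h c hc, G.counit_zero n c hc h.ne', map_zero]

/-- uniqueness of the decomposition -/
theorem decomp_unique {L L' U U' : WithConv (C →ₗ[k] B)} {Li U'i : WithConv (C →ₗ[k] B)}
    (hLi : InU G Li) (hL' : InU G L') (hU : InP G U) (hU'i : InP G U'i)
    (h1 : Li * L = 1) (h2 : U' * U'i = 1) (he : L * U = L' * U') : Li * L' = 1 ∧ U * U'i = 1 := by
  have h : Li * L' = U * U'i := by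
    calc Li * L' = Li * (L' * U') * U'i := by rw [mul_assoc, mul_assoc L', h2, _root_.mul_one]
      _ = U * U'i := by rw [← he, ← mul_assoc, h1, _root_.one_mul]
  have e := eq_one_of_inU_inP (hLi.mul hL') (by rw [h]; exact hU.mul hU'i)
  exact ⟨e, h ▸ e⟩

end Graded

variable {k : Type u} [CommRing k] {A : Type u} [CommRing A] [HopfAlgebra k A]
  (lam : A →ₐc[k] LaurentPolynomial k)
variable (B : Type u) [CommRing B] [Algebra k B]

/-- the graded coalgebra `A` -/
def gcA : GC k A B where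
  H := Hom lam
  ext f g h := LinearMap.ext fun a => eq_of_hom lam h a
  repr n c hc := exists_repr lam hc
  counit_zero n c hc hn := counit_eq_zero lam hc hn

/-- the graded coalgebra `A ⊗ A` -/
def gcAA : GC k (A ⊗[k] A) B where
  H n w := ∃ p q a b, p + q = n ∧ Hom lam p a ∧ Hom lam q b ∧ w = a ⊗ₜ b
  ext f g h := by
    refine TensorProduct.ext' fun a b => ?_
    refine eq_of_hom lam (f := f ∘ₗ (TensorProduct.mk k A A).flip b) (g := g ∘ₗ (TensorProduct.mk k A A).flip b)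
      (fun p x hx => ?_) a
    exact eq_of_hom lam (f := f ∘ₗ TensorProduct.mk k A A x) (g := g ∘ₗ TensorProduct.mk k A A x)
      (fun q y hy => h (p + q) _ ⟨p, q, x, y, rfl, hx, hy, rfl⟩) b
  repr := by
    rintro n _ ⟨m, m', a, b, hmn, ha, hb, rfl⟩
    obtain ⟨ι, s, x, y, p, q, hΔ, hs⟩ := exists_repr lam ha
    obtain ⟨ι', s', x', y', p', q', hΔ', hs'⟩ := exists_repr lam hb
    refine ⟨ι × ι', s ×ˢ s', fun t => x t.1 ⊗ₜ x' t.2, fun t => y t.1 ⊗ₜ y' t.2, fun t => p t.1 + p' t.2,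
      fun t => q t.1 + q' t.2, ?_, fun t ht => ?_⟩
    · rw [TensorProduct.comul_tmul, hΔ, hΔ', TensorProduct.sum_tmul, map_sum, Finset.sum_product]
      refine Finset.sum_congr rfl fun i _ => ?_
      rw [TensorProduct.tmul_sum, map_sum]
      exact Finset.sum_congr rfl fun j _ => TensorProduct.AlgebraTensorModule.tensorTensorTensorComm_tmul ..
    · obtain ⟨ht1, ht2⟩ := Finset.mem_product.1 ht
      obtain ⟨e1, hx, hy⟩ := hs _ ht1
      obtain ⟨e2, hx', hy'⟩ := hs' _ ht2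
      exact ⟨show p t.1 + p' t.2 + (q t.1 + q' t.2) = n by omega, ⟨_, _, _, _, rfl, hx, hx', rfl⟩, ⟨_, _, _, _, rfl, hy, hy', rfl⟩⟩
  counit_zero := by
    rintro n _ ⟨m, m', a, b, hmn, ha, hb, rfl⟩ hn
    rw [TensorProduct.counit_tmul]
    by_cases hm : m = 0
    · rw [counit_eq_zero lam hb (by omega), zero_smul]
    · rw [counit_eq_zero lam ha hm, smul_zero]

variable {B}

/-- composition with the multiplication -/
def viaMul (f : WithConv (A →ₗ[k] B)) : WithConv (A ⊗[k] A →ₗ[k] B) := toConv (f.ofConv ∘ₗ LinearMap.mul' k A)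

/-- the exterior product -/
def box (f g : WithConv (A →ₗ[k] B)) : WithConv (A ⊗[k] A →ₗ[k] B) :=
  toConv (LinearMap.mul' k B ∘ₗ TensorProduct.map f.ofConv g.ofConv)

theorem viaMul_one : viaMul (1 : WithConv (A →ₗ[k] B)) = 1 := by
  refine WithConv.ext (TensorProduct.ext' fun a b => ?_)
  show algebraMap k B (Coalgebra.counit (R := k) (a * b)) = algebraMap k B (Coalgebra.counit (R := k) (a ⊗ₜ[k] b))
  rw [Bialgebra.counit_mul, TensorProduct.counit_tmul, smul_eq_mul, mul_comm]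

theorem box_one : box (1 : WithConv (A →ₗ[k] B)) 1 = 1 := by
  refine WithConv.ext (TensorProduct.ext' fun a b => ?_)
  show algebraMap k B (Coalgebra.counit (R := k) a) * algebraMap k B (Coalgebra.counit (R := k) b) =
    algebraMap k B (Coalgebra.counit (R := k) (a ⊗ₜ[k] b))
  rw [TensorProduct.counit_tmul, smul_eq_mul, map_mul, mul_comm]

theorem viaMul_mul (f g : WithConv (A →ₗ[k] B)) : viaMul (f * g) = viaMul f * viaMul g := by
  refine WithConv.ext (TensorProduct.ext' fun a b => ?_)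
  obtain ⟨S, hS⟩ := TensorProduct.exists_finset (Coalgebra.comul (R := k) a)
  obtain ⟨S', hS'⟩ := TensorProduct.exists_finset (Coalgebra.comul (R := k) b)
  have h1 : Coalgebra.comul (R := k) (a * b) = ∑ t ∈ S ×ˢ S', (t.1.1 * t.2.1) ⊗ₜ (t.1.2 * t.2.2) := by
    rw [Bialgebra.comul_mul, hS, hS', Finset.sum_mul_sum, Finset.sum_product]
    exact Finset.sum_congr rfl fun i _ => Finset.sum_congr rfl fun j _ => Algebra.TensorProduct.tmul_mul_tmul ..
  have h2 : Coalgebra.comul (R := k) (a ⊗ₜ[k] b) = ∑ t ∈ S ×ˢ S', (t.1.1 ⊗ₜ[k] t.2.1) ⊗ₜ[k] (t.1.2 ⊗ₜ[k] t.2.2) := by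
    rw [TensorProduct.comul_tmul, hS, hS', TensorProduct.sum_tmul, map_sum, Finset.sum_product]
    refine Finset.sum_congr rfl fun i _ => ?_
    rw [TensorProduct.tmul_sum, map_sum]
    exact Finset.sum_congr rfl fun j _ => TensorProduct.AlgebraTensorModule.tensorTensorTensorComm_tmul ..
  show (f * g).ofConv (a * b) = (viaMul f * viaMul g).ofConv (a ⊗ₜ b)
  rw [conv_apply_sum _ _ _ _ _ h1, conv_apply_sum _ _ _ _ _ h2]
  rfl

theorem box_mul (f f' g g' : WithConv (A →ₗ[k] B)) : box (f * g) (f' * g') = box f f' * box g g' := by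
  refine WithConv.ext (TensorProduct.ext' fun a b => ?_)
  obtain ⟨S, hS⟩ := TensorProduct.exists_finset (Coalgebra.comul (R := k) a)
  obtain ⟨S', hS'⟩ := TensorProduct.exists_finset (Coalgebra.comul (R := k) b)
  have h2 : Coalgebra.comul (R := k) (a ⊗ₜ[k] b) = ∑ t ∈ S ×ˢ S', (t.1.1 ⊗ₜ[k] t.2.1) ⊗ₜ[k] (t.1.2 ⊗ₜ[k] t.2.2) := by
    rw [TensorProduct.comul_tmul, hS, hS', TensorProduct.sum_tmul, map_sum, Finset.sum_product]
    refine Finset.sum_congr rfl fun i _ => ?_
    rw [TensorProduct.tmul_sum, map_sum]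
    exact Finset.sum_congr rfl fun j _ => TensorProduct.AlgebraTensorModule.tensorTensorTensorComm_tmul ..
  show (f * g).ofConv a * (f' * g').ofConv b = (box f f' * box g g').ofConv (a ⊗ₜ b)
  rw [conv_apply_sum _ _ _ _ _ hS, conv_apply_sum _ _ _ _ _ hS', conv_apply_sum _ _ _ _ _ h2, Finset.sum_mul_sum,
    Finset.sum_product]
  refine Finset.sum_congr rfl fun i _ => Finset.sum_congr rfl fun j _ => ?_
  show _ = f.ofConv i.1 * f'.ofConv j.1 * (g.ofConv i.2 * g'.ofConv j.2)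
  ring

theorem InP.viaMul {f : WithConv (A →ₗ[k] B)} (hf : InP (gcA lam B) f) : InP (gcAA lam B) (viaMul f) := by
  rintro n hn _ ⟨p, q, a, b, hpq, ha, hb, rfl⟩
  show f.ofConv (a * b) = 0
  exact hf n hn _ (hpq ▸ ha.mul lam hb)

theorem InU.viaMul {f : WithConv (A →ₗ[k] B)} (hf : InU (gcA lam B) f) : InU (gcAA lam B) (viaMul f) := by
  refine ⟨?_, ?_⟩
  · rintro n hn _ ⟨p, q, a, b, hpq, ha, hb, rfl⟩
    show f.ofConv (a * b) = 0
    exact hf.1 n hn _ (hpq ▸ ha.mul lam hb)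
  · rintro _ ⟨p, q, a, b, hpq, ha, hb, rfl⟩
    show f.ofConv (a * b) = _
    rw [hf.2 _ (show Hom lam 0 (a * b) from hpq ▸ ha.mul lam hb), Bialgebra.counit_mul, TensorProduct.counit_tmul,
      smul_eq_mul, mul_comm]

theorem InP.box {f g : WithConv (A →ₗ[k] B)} (hf : InP (gcA lam B) f) (hg : InP (gcA lam B) g) :
    InP (gcAA lam B) (box f g) := by
  rintro n hn _ ⟨p, q, a, b, hpq, ha, hb, rfl⟩
  show f.ofConv a * g.ofConv b = 0
  by_cases h : p < 0
  · rw [hf p h a ha, zero_mul]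
  · rw [hg q (by omega) b hb, mul_zero]

theorem InU.box {f g : WithConv (A →ₗ[k] B)} (hf : InU (gcA lam B) f) (hg : InU (gcA lam B) g) :
    InU (gcAA lam B) (box f g) := by
  refine ⟨?_, ?_⟩
  · rintro n hn _ ⟨p, q, a, b, hpq, ha, hb, rfl⟩
    show f.ofConv a * g.ofConv b = 0
    by_cases h : 0 < p
    · rw [hf.1 p h a ha, zero_mul]
    · rw [hg.1 q (by omega) b hb, mul_zero]
  · rintro _ ⟨p, q, a, b, hpq, ha, hb, rfl⟩
    show f.ofConv a * g.ofConv b = algebraMap k B (Coalgebra.counit (R := k) (a ⊗ₜ[k] b))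
    rw [TensorProduct.counit_tmul, smul_eq_mul, map_mul]
    rcases lt_trichotomy p 0 with h | h | h
    · rw [hg.1 q (by omega) b hb, counit_eq_zero lam ha h.ne, map_zero, mul_zero, mul_zero]
    · subst h
      have hq : q = 0 := by omega
      subst hq
      rw [hf.2 a ha, hg.2 b hb, mul_comm]
    · rw [hf.1 p h a ha, counit_eq_zero lam ha h.ne', map_zero, zero_mul, mul_zero]

theorem viaMul_lp (g : Pt (k := k) A B) : viaMul (lp g) = box (lp g) (lp g) :=
  WithConv.ext (TensorProduct.ext' fun a b => map_mul g.ofConv a b)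

/-- the point underlying a multiplicative linear map -/
theorem exists_pt (f : WithConv (A →ₗ[k] B)) (hm : viaMul f = box f f) (h1 : f.ofConv 1 = 1) :
    ∃ x : Pt (k := k) A B, lp x = f :=
  ⟨toConv (AlgHom.ofLinearMap f.ofConv h1 fun a b =>
    LinearMap.congr_fun (congrArg WithConv.ofConv hm) (a ⊗ₜ b)), rfl⟩

/-- a decomposition as linear maps is a decomposition as points -/
theorem exists_pts_of_decomp (g : Pt (k := k) A B) {L U Li Ui : WithConv (A →ₗ[k] B)}
    (hL : InU (gcA lam B) L) (hLi : InU (gcA lam B) Li) (hU : InP (gcA lam B) U) (hUi : InP (gcA lam B) Ui)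
    (hLL : L * Li = 1) (hLL' : Li * L = 1) (hUU : U * Ui = 1) (he : L * U = lp g) :
    ∃ u p : Pt (k := k) A B, lp u = L ∧ lp p = U ∧ u * p = g := by
  have hbb : box L L * box U U = viaMul (lp g) := by rw [← box_mul, he, viaMul_lp]
  have h := decomp_unique (G := gcAA lam B) (L := viaMul L) (L' := box L L) (U := viaMul U) (U' := box U U)
    (Li := viaMul Li) (U'i := box Ui Ui) (hLi.viaMul lam) (hL.box lam hL) (hU.viaMul lam) (hUi.box lam hUi)
    (by rw [← viaMul_mul, hLL', viaMul_one]) (by rw [← box_mul, hUU, box_one])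
    (by rw [← viaMul_mul, he, hbb])
  have hLm : viaMul L = box L L := by
    calc viaMul L = viaMul L * (viaMul Li * box L L) := by rw [h.1, _root_.mul_one]
      _ = box L L := by rw [← mul_assoc, ← viaMul_mul, hLL, viaMul_one, _root_.one_mul]
  have hL1 : L.ofConv 1 = 1 := by
    rw [hL.2 1 (hom_one lam), Bialgebra.counit_one, map_one]
  obtain ⟨u, hu⟩ := exists_pt L hLm hL1
  refine ⟨u, u⁻¹ * g, hu, ?_, mul_inv_cancel_left u g⟩
  rw [lp_mul, ← he, ← mul_assoc, show lp u⁻¹ = Li from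
    left_inv_eq_right_inv (b := lp u⁻¹) (a := lp u) (by rw [← lp_mul, inv_mul_cancel, lp_one]) (by rw [hu]; exact hLL),
    hLL', _root_.one_mul]

end Groth.L25.Dyn

namespace Groth.L25.Dyn

variable {k : Type u} [Field k] {A : Type u} [CommRing A] [HopfAlgebra k A]
  (lam : A →ₐc[k] LaurentPolynomial k) {B : Type u} [CommRing B] [Algebra k B]

/-- near the big cell a point decomposes -/
theorem exists_decomp {J : Ideal B} (hJ : J * J = ⊥) (g : Pt (k := k) A B) (u₀ p₀ : Pt (k := k) A (B ⧸ J))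
    (hu₀ : InU (gcA lam (B ⧸ J)) (lp u₀)) (hu₀' : InU (gcA lam (B ⧸ J)) (lp u₀⁻¹))
    (hp₀ : InP (gcA lam (B ⧸ J)) (lp p₀)) (hp₀' : InP (gcA lam (B ⧸ J)) (lp p₀⁻¹))
    (he : u₀ * p₀ = pmap (Ideal.Quotient.mkₐ k J) g) :
    ∃ u p : Pt (k := k) A B, InU (gcA lam B) (lp u) ∧ InP (gcA lam B) (lp p) ∧ u * p = g ∧
      pmap (Ideal.Quotient.mkₐ k J) u = u₀ ∧ pmap (Ideal.Quotient.mkₐ k J) p = p₀ := by
  let W := WithConv (A →ₗ[k] B)
  let q : B →ₐ[k] B ⧸ J := Ideal.Quotient.mkₐ k J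
  obtain ⟨sec, hsec⟩ := LinearMap.exists_rightInverse_of_surjective q.toLinearMap
    (LinearMap.range_eq_top.2 Ideal.Quotient.mk_surjective)
  let π : W → WithConv (A →ₗ[k] B ⧸ J) := fun f => toConv (q.toLinearMap ∘ₗ f.ofConv)
  have πmul : ∀ f f' : W, π (f * f') = π f * π f' := fun f f' =>
    congrArg toConv (LinearMap.algHom_comp_convMul_distrib q f f')
  have πone : π 1 = 1 := WithConv.ext (LinearMap.ext fun a => q.commutes _)
  have hsq : ∀ a b : B, q a = 0 → q b = 0 → a * b = 0 := fun a b ha hb => by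
    have h := Ideal.mul_mem_mul (Ideal.Quotient.eq_zero_iff_mem.1 ha) (Ideal.Quotient.eq_zero_iff_mem.1 hb)
    rwa [hJ, Ideal.mem_bot] at h
  have hsqW : ∀ f f' : W, π f = 0 → π f' = 0 → f * f' = 0 := by
    intro f f' hf hf'
    refine WithConv.ext (LinearMap.ext fun a => ?_)
    obtain ⟨S, hS⟩ := TensorProduct.exists_finset (Coalgebra.comul (R := k) a)
    rw [conv_apply_sum _ _ _ _ _ hS]
    exact Finset.sum_eq_zero fun i _ => hsq _ _ (LinearMap.congr_fun (congrArg WithConv.ofConv hf) _)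
      (LinearMap.congr_fun (congrArg WithConv.ofConv hf') _)
  -- lifts
  let liftU : WithConv (A →ₗ[k] B ⧸ J) → W := fun v =>
    toConv (Algebra.linearMap k B ∘ₗ Coalgebra.counit ∘ₗ prS lam (fun n => n = 0) +
      sec ∘ₗ v.ofConv ∘ₗ prS lam (fun n => n < 0))
  let liftP : WithConv (A →ₗ[k] B ⧸ J) → W := fun v => toConv (sec ∘ₗ v.ofConv ∘ₗ prS lam (fun n => 0 ≤ n))
  have hliftU : ∀ v, InU (gcA lam (B ⧸ J)) v → InU (gcA lam B) (liftU v) ∧ π (liftU v) = v := by
    intro v hv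
    refine ⟨⟨fun n hn c hc => ?_, fun c hc => ?_⟩, WithConv.ext ((gcA lam (B ⧸ J)).ext _ _ fun n c hc => ?_)⟩
    · show algebraMap k B (Coalgebra.counit (R := k) (prS lam _ c)) + sec (v.ofConv (prS lam _ c)) = 0
      rw [hc.prS_eq, hc.prS_eq, if_neg hn.ne', if_neg (by omega)]
      simp
    · show algebraMap k B (Coalgebra.counit (R := k) (prS lam _ c)) + sec (v.ofConv (prS lam _ c)) = _
      rw [(hc : Hom lam 0 c).prS_eq, (hc : Hom lam 0 c).prS_eq, if_pos rfl, if_neg (lt_irrefl 0)]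
      simp
    · show q (algebraMap k B (Coalgebra.counit (R := k) (prS lam _ c)) + sec (v.ofConv (prS lam _ c))) = v.ofConv c
      have hs := fun x => LinearMap.congr_fun hsec x
      rw [map_add, AlgHom.commutes, show q (sec (v.ofConv (prS lam _ c))) = v.ofConv (prS lam _ c) from hs _,
        (hc : Hom lam n c).prS_eq, (hc : Hom lam n c).prS_eq]
      rcases lt_trichotomy n 0 with h | h | h
      · rw [if_neg h.ne, if_pos h, map_zero, map_zero, zero_add]
      · subst h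
        rw [if_pos rfl, if_neg (lt_irrefl 0), map_zero, add_zero, hv.2 c hc]
      · rw [if_neg h.ne', if_neg (by omega), map_zero, map_zero, map_zero, add_zero, hv.1 n h c hc]
  have hliftP : ∀ v, InP (gcA lam (B ⧸ J)) v → InP (gcA lam B) (liftP v) ∧ π (liftP v) = v := by
    intro v hv
    refine ⟨fun n hn c hc => ?_, WithConv.ext ((gcA lam (B ⧸ J)).ext _ _ fun n c hc => ?_)⟩
    · show sec (v.ofConv (prS lam _ c)) = 0
      rw [(hc : Hom lam n c).prS_eq, if_neg (by omega), map_zero, map_zero]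
    · show q (sec (v.ofConv (prS lam _ c))) = v.ofConv c
      rw [show q (sec (v.ofConv (prS lam _ c))) = v.ofConv (prS lam _ c) from LinearMap.congr_fun hsec _,
        (hc : Hom lam n c).prS_eq]
      split_ifs with h
      · rfl
      · rw [map_zero, hv n (by omega) c hc]
  obtain ⟨hL0, hL0q⟩ := hliftU _ hu₀
  obtain ⟨hM0, hM0q⟩ := hliftU _ hu₀'
  obtain ⟨hU0, hU0q⟩ := hliftP _ hp₀
  obtain ⟨hV0, hV0q⟩ := hliftP _ hp₀'
  generalize liftU (lp u₀) = L0 at hL0 hL0q
  generalize liftU (lp u₀⁻¹) = M0 at hM0 hM0q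
  generalize liftP (lp p₀) = U0 at hU0 hU0q
  generalize liftP (lp p₀⁻¹) = V0 at hV0 hV0q
  -- inverses
  have πadd : ∀ X Y : W, π (X + Y) = π X + π Y := fun X Y =>
    WithConv.ext (LinearMap.ext fun a => map_add q _ _)
  have πsub : ∀ X Y : W, π (X - Y) = π X - π Y := fun X Y =>
    WithConv.ext (LinearMap.ext fun a => map_sub q _ _)
  have hz : ∀ X : W, π X = 1 → X * (1 + (1 - X)) = 1 ∧ (1 + (1 - X)) * X = 1 := fun X hX => by
    have h2 := hsqW (1 - X) (1 - X) (by rw [πsub, πone, hX, sub_self]) (by rw [πsub, πone, hX, sub_self])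
    constructor
    · calc X * (1 + (1 - X)) = 1 - (1 - X) * (1 - X) := by (simp only [mul_add, mul_sub, sub_mul, add_mul, _root_.mul_one, _root_.one_mul]; abel)
        _ = 1 := by rw [h2, sub_zero]
    · calc (1 + (1 - X)) * X = 1 - (1 - X) * (1 - X) := by (simp only [mul_add, mul_sub, sub_mul, add_mul, _root_.mul_one, _root_.one_mul]; abel)
        _ = 1 := by rw [h2, sub_zero]
  have hUc : ∀ X : W, InU (gcA lam B) X → InU (gcA lam B) (1 + (1 - X)) := fun X hX => by
    refine ⟨fun n hn c hc => ?_, fun c hc => ?_⟩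
    · show (1 : W).ofConv c + ((1 : W).ofConv c - X.ofConv c) = 0
      rw [(inU_one (gcA lam B)).1 n hn c hc, hX.1 n hn c hc, sub_zero, add_zero]
    · show (1 : W).ofConv c + ((1 : W).ofConv c - X.ofConv c) = _
      rw [hX.2 c hc, (inU_one (gcA lam B)).2 c hc, sub_self, add_zero]
  have hPc : ∀ X : W, InP (gcA lam B) X → InP (gcA lam B) (1 + (1 - X)) := fun X hX n hn c hc => by
    show (1 : W).ofConv c + ((1 : W).ofConv c - X.ofConv c) = 0
    rw [inP_one (gcA lam B) n hn c hc, hX n hn c hc, sub_zero, add_zero]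
  have hinv : ∀ X Y : W, π X * π Y = 1 → π Y * π X = 1 →
      X * (Y * (1 + (1 - X * Y))) = 1 ∧ (Y * (1 + (1 - X * Y))) * X = 1 := fun X Y h1 h2 => by
    have r : X * (Y * (1 + (1 - X * Y))) = 1 := by
      rw [← mul_assoc]; exact (hz _ ((πmul X Y).trans h1)).1
    have l : ((1 + (1 - Y * X)) * Y) * X = 1 := by
      rw [mul_assoc]; exact (hz _ ((πmul Y X).trans h2)).2
    exact ⟨r, by rw [← left_inv_eq_right_inv l r]; exact l⟩
  have huu : lp u₀ * lp u₀⁻¹ = 1 ∧ lp u₀⁻¹ * lp u₀ = 1 := by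
    rw [← lp_mul, ← lp_mul, mul_inv_cancel, inv_mul_cancel, lp_one]; exact ⟨rfl, rfl⟩
  have hpp : lp p₀ * lp p₀⁻¹ = 1 ∧ lp p₀⁻¹ * lp p₀ = 1 := by
    rw [← lp_mul, ← lp_mul, mul_inv_cancel, inv_mul_cancel, lp_one]; exact ⟨rfl, rfl⟩
  obtain ⟨hL1, hL2⟩ := hinv L0 M0 (by rw [hL0q, hM0q]; exact huu.1) (by rw [hL0q, hM0q]; exact huu.2)
  obtain ⟨hU1, hU2⟩ := hinv U0 V0 (by rw [hU0q, hV0q]; exact hpp.1) (by rw [hU0q, hV0q]; exact hpp.2)
  have hL0i : InU (gcA lam B) (M0 * (1 + (1 - L0 * M0))) := hM0.mul (hUc _ (hL0.mul hM0))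
  have hU0i : InP (gcA lam B) (V0 * (1 + (1 - U0 * V0))) := hV0.mul (hPc _ (hU0.mul hV0))
  generalize M0 * (1 + (1 - L0 * M0)) = L0i at hL1 hL2 hL0i
  generalize V0 * (1 + (1 - U0 * V0)) = U0i at hU1 hU2 hU0i
  have hL0iq : π L0i = lp u₀⁻¹ := by
    refine left_inv_eq_right_inv ?_ huu.1
    rw [← hL0q, ← πmul, hL2, πone]
  have hU0iq : π U0i = lp p₀⁻¹ := by
    refine left_inv_eq_right_inv ?_ hpp.1
    rw [← hU0q, ← πmul, hU2, πone]
  let D : W := L0i * lp g * U0i - 1
  have hD : π D = 0 := by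
    have hg : π (lp g) = lp (u₀ * p₀) := by rw [he]; rfl
    rw [πsub, πone, πmul, πmul, hL0iq, hU0iq, hg, ← lp_mul, ← lp_mul, inv_mul_cancel_left, mul_inv_cancel, lp_one,
      sub_self]
  let D1 : W := toConv (D.ofConv ∘ₗ prS lam (fun n => n < 0))
  let D2 : W := toConv (D.ofConv ∘ₗ prS lam (fun n => 0 ≤ n))
  have hD1 : π D1 = 0 := WithConv.ext (LinearMap.ext fun a =>
    LinearMap.congr_fun (congrArg WithConv.ofConv hD) (prS lam (fun n => n < 0) a))
  have hD2 : π D2 = 0 := WithConv.ext (LinearMap.ext fun a =>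
    LinearMap.congr_fun (congrArg WithConv.ofConv hD) (prS lam (fun n => 0 ≤ n) a))
  have hD12 : D1 + D2 = D := WithConv.ext ((gcA lam B).ext _ _ fun n c hc => by
    show D.ofConv (prS lam _ c) + D.ofConv (prS lam _ c) = D.ofConv c
    rw [(hc : Hom lam n c).prS_eq, (hc : Hom lam n c).prS_eq]
    by_cases h : n < 0
    · rw [if_pos h, if_neg (by omega), map_zero, add_zero]
    · rw [if_neg h, if_pos (by omega), map_zero, zero_add])
  have hX1 : InU (gcA lam B) (1 + D1) ∧ InU (gcA lam B) (1 - D1) := by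
    refine ⟨⟨fun n hn c hc => ?_, fun c hc => ?_⟩, ⟨fun n hn c hc => ?_, fun c hc => ?_⟩⟩
    · show (1 : W).ofConv c + D.ofConv (prS lam _ c) = 0
      rw [(inU_one (gcA lam B)).1 n hn c hc, (hc : Hom lam n c).prS_eq, if_neg (by omega), map_zero, add_zero]
    · show (1 : W).ofConv c + D.ofConv (prS lam _ c) = _
      rw [(inU_one (gcA lam B)).2 c hc, (hc : Hom lam 0 c).prS_eq, if_neg (by omega), map_zero, add_zero]
    · show (1 : W).ofConv c - D.ofConv (prS lam _ c) = 0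
      rw [(inU_one (gcA lam B)).1 n hn c hc, (hc : Hom lam n c).prS_eq, if_neg (by omega), map_zero, sub_zero]
    · show (1 : W).ofConv c - D.ofConv (prS lam _ c) = _
      rw [(inU_one (gcA lam B)).2 c hc, (hc : Hom lam 0 c).prS_eq, if_neg (by omega), map_zero, sub_zero]
  have hX2 : InP (gcA lam B) (1 + D2) ∧ InP (gcA lam B) (1 - D2) := by
    refine ⟨fun n hn c hc => ?_, fun n hn c hc => ?_⟩
    · show (1 : W).ofConv c + D.ofConv (prS lam _ c) = 0
      rw [inP_one (gcA lam B) n hn c hc, (hc : Hom lam n c).prS_eq, if_neg (by omega), map_zero, add_zero]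
    · show (1 : W).ofConv c - D.ofConv (prS lam _ c) = 0
      rw [inP_one (gcA lam B) n hn c hc, (hc : Hom lam n c).prS_eq, if_neg (by omega), map_zero, sub_zero]
  have e1 : (1 + D1) * (1 - D1) = 1 := by
    rw [mul_sub, add_mul, add_mul, _root_.mul_one, _root_.one_mul, _root_.mul_one, hsqW D1 D1 hD1 hD1]; abel
  have e1' : (1 - D1) * (1 + D1) = 1 := by
    rw [mul_add, sub_mul, sub_mul, _root_.mul_one, _root_.one_mul, _root_.mul_one, hsqW D1 D1 hD1 hD1]; abel
  have e2 : (1 + D2) * (1 - D2) = 1 := by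
    rw [mul_sub, add_mul, add_mul, _root_.mul_one, _root_.one_mul, _root_.mul_one, hsqW D2 D2 hD2 hD2]; abel
  have e12 : (1 + D1) * (1 + D2) = L0i * lp g * U0i := by
    rw [add_mul, mul_add, mul_add, _root_.one_mul, _root_.mul_one, _root_.one_mul, hsqW D1 D2 hD1 hD2, add_zero,
      add_assoc, add_comm D2 D1, hD12]
    exact add_sub_cancel _ _
  obtain ⟨u, p, hu, hp, hup⟩ := exists_pts_of_decomp lam g (L := L0 * (1 + D1)) (U := (1 + D2) * U0)
    (Li := (1 - D1) * L0i) (Ui := U0i * (1 - D2))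
    (hL0.mul hX1.1) (hX1.2.mul hL0i) (hX2.1.mul hU0) (hU0i.mul hX2.2)
    (by rw [mul_assoc, ← mul_assoc (1 + D1), e1, _root_.one_mul, hL1])
    (by rw [mul_assoc, ← mul_assoc L0i, hL2, _root_.one_mul, e1'])
    (by rw [mul_assoc, ← mul_assoc U0, hU1, _root_.one_mul, e2])
    (by rw [mul_assoc L0, ← mul_assoc (1 + D1), e12, mul_assoc, hU2, _root_.mul_one, ← mul_assoc, hL1, _root_.one_mul])
  have hpu : ∀ (x : Pt (k := k) A B) (y : Pt (k := k) A (B ⧸ J)), π (lp x) = lp y → pmap q x = y :=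
    fun x y h => WithConv.ext (AlgHom.toLinearMap_injective (congrArg WithConv.ofConv h))
  refine ⟨u, p, hu ▸ hL0.mul hX1.1, hp ▸ hX2.1.mul hU0, hup, hpu _ _ ?_, hpu _ _ ?_⟩
  · rw [hu, πmul, hL0q, πadd, πone, hD1, add_zero, _root_.mul_one]
  · rw [hp, πmul, hU0q, πadd, πone, hD2, add_zero, _root_.one_mul]

end Groth.L25.Dyn
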