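import Groth.Prelude.Def_Dyn
import Mathlib.RingTheory.Bialgebra.MonoidAlgebra
import Mathlib.RingTheory.Bialgebra.Convolution
import Mathlib.RingTheory.HopfAlgebra.Convolution
import Mathlib.LinearAlgebra.TensorProduct.Finiteness
import Mathlib.Tactic.Group

/-!
# The grading of the coordinate ring defined by a one-parameter subgroup
-/

set_option autoImplicit false

universe u

open TensorProduct WithConv AddMonoidAlgebra

noncomputable section

namespace Groth.L25.Dyn

variable {k : Type u} [CommRing k] {A : Type u} [CommRing A] [HopfAlgebra k A]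

/-- points -/
abbrev Pt (A : Type u) [CommRing A] [HopfAlgebra k A] (C : Type u) [CommRing C] [Algebra k C] :=
  WithConv (A →ₐ[k] C)

section Conv

variable {C D : Type u} [CommRing C] [Algebra k C] [CommRing D] [Algebra k D]

/-- change of values of points -/
def pmap (φ : C →ₐ[k] D) : Pt (k := k) A C →* Pt (k := k) A D where
  toFun f := toConv (φ.comp f.ofConv)
  map_one' := WithConv.ext (AlgHom.ext fun a => φ.commutes _)
  map_mul' f g := congrArg toConv (AlgHom.comp_convMul_distrib φ f g)

theorem pmap_apply (φ : C →ₐ[k] D) (f : Pt (k := k) A C) (a : A) : (pmap φ f).ofConv a = φ (f.ofConv a) := rfl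

instance ptGroup : Group (Pt (k := k) A C) :=
  { (inferInstance : Monoid (WithConv (A →ₐ[k] C))) with
    inv := fun f => toConv (f.ofConv.comp (HopfAlgebra.antipodeAlgHom k A))
    inv_mul_cancel := fun f => by
      have h := congrArg (pmap f.ofConv) (AlgHom.antipode_id_cancel (R := k) (A := A))
      rw [map_mul, map_one] at h
      exact h }

theorem inv_apply (f : Pt (k := k) A C) (a : A) : (f⁻¹).ofConv a = f.ofConv (HopfAlgebra.antipode k a) := rfl

theorem mul_apply_sum (f g : Pt (k := k) A C) {a : A} {ι : Type*} (s : Finset ι) (x y : ι → A)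
    (h : Coalgebra.comul (R := k) a = ∑ i ∈ s, x i ⊗ₜ y i) :
    (f * g).ofConv a = ∑ i ∈ s, f.ofConv (x i) * g.ofConv (y i) := by
  change Algebra.TensorProduct.lmul' k (Algebra.TensorProduct.map f.ofConv g.ofConv (Coalgebra.comul (R := k) a)) = _
  rw [h]
  simp only [map_sum, Algebra.TensorProduct.map_tmul, Algebra.TensorProduct.lmul'_apply_tmul]

theorem conv3_eq (f g h : A →ₐ[k] C) :
    toConv (Dyn.conv3 k A f g h) = toConv f * toConv g * toConv h := by
  refine WithConv.ext (AlgHom.ext fun a => ?_)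
  change Algebra.TensorProduct.lmul' k (Algebra.TensorProduct.map
      ((Algebra.TensorProduct.lmul' k).comp (Algebra.TensorProduct.map f g)) h
      (Algebra.TensorProduct.map (Bialgebra.comulAlgHom k A) (AlgHom.id k A) (Coalgebra.comul (R := k) a))) =
    Algebra.TensorProduct.lmul' k (Algebra.TensorProduct.map
      ((Algebra.TensorProduct.lmul' k).comp ((Algebra.TensorProduct.map f g).comp (Bialgebra.comulAlgHom k A))) h
      (Coalgebra.comul (R := k) a))
  generalize Coalgebra.comul (R := k) a = w
  induction w using TensorProduct.induction_on with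
  | zero => simp
  | add p q hp hq => simp only [map_add, hp, hq]
  | tmul p q => simp

end Conv

section Orbit

variable (lam : A →ₐc[k] LaurentPolynomial k)

/-- the one-parameter subgroup with values in `C[T;T⁻¹]` -/
def lamP (C : Type u) [CommRing C] [Algebra k C] : Pt (k := k) A (LaurentPolynomial C) :=
  toConv (Dyn.lamR k A lam C)

/-- constant Laurent polynomials -/
abbrev cst (C : Type u) [CommRing C] [Algebra k C] : C →ₐ[k] LaurentPolynomial C :=
  IsScalarTower.toAlgHom k C (LaurentPolynomial C)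

theorem conjOrbit_eq {C : Type u} [CommRing C] [Algebra k C] (g : A →ₐ[k] C) :
    toConv (Dyn.conjOrbit k A lam C g) = lamP lam C * pmap (cst C) (toConv g) * (lamP lam C)⁻¹ := by
  rw [Dyn.conjOrbit, conv3_eq]
  rfl

/-- the orbit of a point, as a homomorphism of groups -/
def orb (C : Type u) [CommRing C] [Algebra k C] : Pt (k := k) A C →* Pt (k := k) A (LaurentPolynomial C) where
  toFun g := toConv (Dyn.conjOrbit k A lam C g.ofConv)
  map_one' := by rw [conjOrbit_eq, toConv_ofConv, map_one, _root_.mul_one, mul_inv_cancel]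
  map_mul' f g := by
    rw [conjOrbit_eq, conjOrbit_eq, conjOrbit_eq, toConv_ofConv, toConv_ofConv, toConv_ofConv, map_mul]
    group

variable {C D : Type u} [CommRing C] [Algebra k C] [CommRing D] [Algebra k D]

theorem mapAlgHom_cst (φ : C →ₐ[k] D) : (mapAlgHom ℤ φ).comp (cst C) = (cst D).comp φ := by
  refine AlgHom.ext fun c => ?_
  show mapAlgHom ℤ φ (algebraMap C (LaurentPolynomial C) c) = algebraMap D (LaurentPolynomial D) (φ c)
  ext n
  simp [AddMonoidAlgebra.coeff_single_apply, apply_ite φ]

theorem mapAlgHom_lamP (φ : C →ₐ[k] D) : pmap (mapAlgHom ℤ φ) (lamP lam C) = lamP lam D := by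
  refine WithConv.ext ?_
  show (mapAlgHom ℤ φ).comp ((mapAlgHom ℤ (Algebra.ofId k C)).comp (lam : A →ₐ[k] LaurentPolynomial k)) = _
  rw [← AlgHom.comp_assoc, ← AddMonoidAlgebra.mapRangeAlgHom_comp]
  exact congrArg (fun u => (mapAlgHom ℤ u).comp (lam : A →ₐ[k] LaurentPolynomial k)) (Subsingleton.elim _ _)

theorem orb_map (φ : C →ₐ[k] D) (g : Pt (k := k) A C) : pmap (mapAlgHom ℤ φ) (orb lam C g) = orb lam D (pmap φ g) := by
  show pmap (mapAlgHom ℤ φ) (toConv (Dyn.conjOrbit k A lam C g.ofConv)) =
    toConv (Dyn.conjOrbit k A lam D (pmap φ g).ofConv)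
  rw [conjOrbit_eq, conjOrbit_eq, map_mul, map_mul, map_inv, mapAlgHom_lamP, toConv_ofConv, toConv_ofConv]
  congr 2
  refine WithConv.ext ?_
  show (mapAlgHom ℤ φ).comp ((cst C).comp g.ofConv) = (cst D).comp (φ.comp g.ofConv)
  rw [← AlgHom.comp_assoc, mapAlgHom_cst, AlgHom.comp_assoc]

/-- the universal orbit -/
def cO : A →ₐ[k] LaurentPolynomial A := Dyn.conjOrbit k A lam A (AlgHom.id k A)

theorem conjOrbit_apply (g : A →ₐ[k] C) : Dyn.conjOrbit k A lam C g = (mapAlgHom ℤ g).comp (cO lam) := by
  have h := orb_map lam g (toConv (AlgHom.id k A))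
  exact (congrArg WithConv.ofConv h).symm

theorem coeff_conjOrbit (g : A →ₐ[k] C) (a : A) (n : ℤ) :
    (Dyn.conjOrbit k A lam C g a).coeff n = g ((cO lam a).coeff n) := by
  rw [conjOrbit_apply, AlgHom.comp_apply, coeff_mapAlgHom]

/-- the component of degree `n` -/
def pr (n : ℤ) : A →ₗ[k] A where
  toFun a := (cO lam a).coeff n
  map_add' a b := by simp
  map_smul' r a := by simp

/-- homogeneous of degree `n` -/
def Hom (n : ℤ) (a : A) : Prop := cO lam a = single n a

theorem Hom.pr_eq {n m : ℤ} {a : A} (h : Hom lam n a) : pr lam m a = if n = m then a else 0 := by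
  show (cO lam a).coeff m = _
  rw [h, coeff_single_apply]

theorem Hom.conjOrbit {n : ℤ} {a : A} (h : Hom lam n a) (g : A →ₐ[k] C) :
    Dyn.conjOrbit k A lam C g a = single n (g a) := by
  rw [conjOrbit_apply, AlgHom.comp_apply, h, mapAlgHom_single]

theorem Hom.mul {m n : ℤ} {a b : A} (ha : Hom lam m a) (hb : Hom lam n b) : Hom lam (m + n) (a * b) := by
  rw [Hom, map_mul, ha, hb, single_mul_single]

theorem hom_one : Hom lam 0 (1 : A) := by rw [Hom, map_one]; rfl

theorem Hom.add {n : ℤ} {a b : A} (ha : Hom lam n a) (hb : Hom lam n b) : Hom lam n (a + b) := by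
  rw [Hom, map_add, ha, hb, single_add]

theorem hom_zero (n : ℤ) : Hom lam n (0 : A) := by rw [Hom, map_zero, single_zero]

theorem Hom.smul {n : ℤ} {a : A} (r : k) (ha : Hom lam n a) : Hom lam n (r • a) := by
  rw [Hom, map_smul, ha, smul_single]

theorem hom_algebraMap (r : k) : Hom lam 0 (algebraMap k A r) := by
  rw [Algebra.algebraMap_eq_smul_one]
  exact (hom_one lam).smul lam r

/-- evaluation at `T = 1` -/
def ev1 (C : Type u) [CommRing C] [Algebra k C] : LaurentPolynomial C →ₐ[k] C :=
  ((AddMonoidAlgebra.lift C C ℤ) 1).restrictScalars k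

theorem ev1_single (n : ℤ) (c : C) : ev1 (k := k) C (single n c) = c := by
  show (AddMonoidAlgebra.lift C C ℤ) 1 (single n c) = c
  rw [AddMonoidAlgebra.lift_single]
  simp

theorem pmap_ev1_lamP (C : Type u) [CommRing C] [Algebra k C] : pmap (ev1 (k := k) C) (lamP lam C) = 1 := by
  refine WithConv.ext (AlgHom.ext fun a => ?_)
  show ev1 (k := k) C (mapAlgHom ℤ (Algebra.ofId k C) (lam a)) = algebraMap k C (Coalgebra.counit (R := k) a)
  rw [← CoalgHomClass.counit_comp_apply lam a]
  generalize lam a = w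
  induction w using AddMonoidAlgebra.induction_linear with
  | zero => simp
  | add p q hp hq => simp only [map_add, hp, hq]
  | single n c =>
    rw [mapAlgHom_single, ev1_single, AddMonoidAlgebra.counit_single]
    rfl

theorem ev1_cO (a : A) : ev1 (k := k) A (cO lam a) = a := by
  have h : pmap (ev1 (k := k) A) (orb lam A (toConv (AlgHom.id k A))) = toConv (AlgHom.id k A) := by
    show pmap (ev1 (k := k) A) (toConv (Dyn.conjOrbit k A lam A (AlgHom.id k A))) = _
    rw [conjOrbit_eq, map_mul, map_mul, map_inv, pmap_ev1_lamP, _root_.one_mul, inv_one, _root_.mul_one]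
    refine WithConv.ext (AlgHom.ext fun b => ?_)
    show ev1 (k := k) A (single 0 b) = b
    exact ev1_single 0 b
  exact DFunLike.congr_fun (congrArg WithConv.ofConv h) a

theorem sum_pr (a : A) : ∑ n ∈ (cO lam a).coeff.support, pr lam n a = a := by
  conv_rhs => rw [← ev1_cO lam a, ← AddMonoidAlgebra.sum_single (cO lam a)]
  rw [Finsupp.sum, map_sum]
  exact Finset.sum_congr rfl fun n _ => (ev1_single _ _).symm

/-- the doubling map on Laurent polynomials -/
def dbl : LaurentPolynomial A →ₐ[A] LaurentPolynomial (LaurentPolynomial A) :=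
  (AddMonoidAlgebra.lift A (LaurentPolynomial (LaurentPolynomial A)) ℤ)
    { toFun := fun n => single n.toAdd (single n.toAdd (1 : A))
      map_one' := rfl
      map_mul' := fun m n => by rw [single_mul_single, single_mul_single, _root_.mul_one]; rfl }

theorem dbl_single (n : ℤ) (a : A) : dbl (single n a) = single n (single n a) := by
  rw [dbl, AddMonoidAlgebra.lift_single]
  show a • single n (single n (1 : A)) = _
  rw [smul_single, smul_single, smul_eq_mul, _root_.mul_one]

theorem dbl_lamP : pmap ((dbl (A := A)).restrictScalars k) (lamP lam A) =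
    lamP lam (LaurentPolynomial A) * pmap (cst (LaurentPolynomial A)) (lamP lam A) := by
  let u : LaurentPolynomial k →ₐ[k] LaurentPolynomial (LaurentPolynomial A) :=
    mapAlgHom ℤ (Algebra.ofId k (LaurentPolynomial A))
  let v : LaurentPolynomial k →ₐ[k] LaurentPolynomial (LaurentPolynomial A) :=
    (cst (LaurentPolynomial A)).comp (mapAlgHom ℤ (Algebra.ofId k A))
  refine WithConv.ext ?_
  show ((dbl (A := A)).restrictScalars k).comp ((mapAlgHom ℤ (Algebra.ofId k A)).comp (lam : A →ₐ[k] LaurentPolynomial k)) =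
    (toConv (u.comp (lam : A →ₐ[k] LaurentPolynomial k)) * toConv (v.comp (lam : A →ₐ[k] LaurentPolynomial k))).ofConv
  rw [← AlgHom.convMul_comp_bialgHom_distrib (toConv u) (toConv v) lam, ← AlgHom.comp_assoc]
  congr 1
  refine AddMonoidAlgebra.algHom_ext (fun n => ?_) (Subsingleton.elim _ _)
  show dbl (mapAlgHom ℤ (Algebra.ofId k A) (single n 1)) = (toConv u * toConv v).ofConv (single n 1)
  rw [mapAlgHom_single, map_one, dbl_single]
  show _ = Algebra.TensorProduct.lmul' k (Algebra.TensorProduct.map u v (Coalgebra.comul (R := k) (single n 1)))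
  rw [show Coalgebra.comul (R := k) (single n (1 : k) : LaurentPolynomial k) = single n 1 ⊗ₜ single n 1 from
    LaurentPolynomial.comul_T n, Algebra.TensorProduct.map_tmul, Algebra.TensorProduct.lmul'_apply_tmul]
  show _ = mapAlgHom ℤ (Algebra.ofId k (LaurentPolynomial A)) (single n 1) *
    single 0 (mapAlgHom ℤ (Algebra.ofId k A) (single n 1))
  rw [mapAlgHom_single, mapAlgHom_single, map_one, map_one, single_mul_single, add_zero, _root_.one_mul]

theorem cO_cO (a : A) : mapAlgHom ℤ (cO lam) (cO lam a) = dbl (cO lam a) := by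
  have h : orb lam (LaurentPolynomial A) (orb lam A (toConv (AlgHom.id k A))) =
      pmap ((dbl (A := A)).restrictScalars k) (orb lam A (toConv (AlgHom.id k A))) := by
    show toConv (Dyn.conjOrbit k A lam _ (toConv (Dyn.conjOrbit k A lam A (AlgHom.id k A))).ofConv) =
      pmap _ (toConv (Dyn.conjOrbit k A lam A (AlgHom.id k A)))
    rw [conjOrbit_eq, toConv_ofConv, conjOrbit_eq]
    have hc : pmap ((dbl (A := A)).restrictScalars k) (pmap (cst A) (toConv (AlgHom.id k A))) =
        pmap (cst (LaurentPolynomial A)) (pmap (cst A) (toConv (AlgHom.id k A))) := by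
      refine WithConv.ext (AlgHom.ext fun b => ?_)
      show dbl (single 0 b) = single 0 (single 0 b)
      exact dbl_single 0 b
    rw [map_mul, map_mul, map_inv, map_mul, map_mul, map_inv, dbl_lamP, hc]
    group
  have h1 := DFunLike.congr_fun (congrArg WithConv.ofConv h) a
  rw [← show Dyn.conjOrbit k A lam (LaurentPolynomial A) (cO lam) a = mapAlgHom ℤ (cO lam) (cO lam a) from
    DFunLike.congr_fun (conjOrbit_apply lam (cO lam)) a]
  exact h1

theorem hom_pr (n : ℤ) (a : A) : Hom lam n (pr lam n a) := by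
  classical
  have h := congrArg (fun w => w.coeff n) (cO_cO lam a)
  rw [coeff_mapAlgHom, ← AddMonoidAlgebra.sum_single (cO lam a), Finsupp.sum, map_sum] at h
  show cO lam ((cO lam a).coeff n) = single n ((cO lam a).coeff n)
  rw [← AddMonoidAlgebra.sum_single (cO lam a), Finsupp.sum]
  refine h.trans ?_
  rw [AddMonoidAlgebra.coeff_sum, Finset.sum_apply']
  simp only [dbl_single, coeff_single_apply]
  rw [Finset.sum_ite_eq']
  rw [AddMonoidAlgebra.coeff_sum, Finset.sum_apply']
  simp only [coeff_single_apply]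
  rw [Finset.sum_ite_eq']
  split_ifs with hn
  · rfl
  · rw [single_zero]

theorem counit_eq_zero {n : ℤ} {a : A} (h : Hom lam n a) (hn : n ≠ 0) : Coalgebra.counit (R := k) a = 0 := by
  have h1 := h.conjOrbit lam (1 : Pt (k := k) A k).ofConv
  rw [show Dyn.conjOrbit k A lam k (1 : Pt (k := k) A k).ofConv = (1 : Pt (k := k) A (LaurentPolynomial k)).ofConv from
    congrArg WithConv.ofConv (map_one (orb lam k))] at h1
  have h2 := congrArg (fun w => w.coeff 0) h1
  simp only [coeff_single_apply, if_neg hn] at h2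
  rw [← h2]
  show Coalgebra.counit (R := k) a = (algebraMap k (LaurentPolynomial k) (Coalgebra.counit (R := k) a)).coeff 0
  simp

theorem orb_comul : pmap (mapAlgHom ℤ (Bialgebra.comulAlgHom k A)) (orb lam A (toConv (AlgHom.id k A))) =
    pmap (mapAlgHom ℤ (Algebra.TensorProduct.includeLeft : A →ₐ[k] A ⊗[k] A)) (orb lam A (toConv (AlgHom.id k A))) *
      pmap (mapAlgHom ℤ (Algebra.TensorProduct.includeRight : A →ₐ[k] A ⊗[k] A)) (orb lam A (toConv (AlgHom.id k A))) := by
  rw [orb_map, orb_map, orb_map, ← map_mul]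
  congr 1
  refine WithConv.ext (AlgHom.ext fun a => ?_)
  show Coalgebra.comul (R := k) a = Algebra.TensorProduct.lmul' k
    (Algebra.TensorProduct.map ((Algebra.TensorProduct.includeLeft : A →ₐ[k] A ⊗[k] A).comp (AlgHom.id k A))
      ((Algebra.TensorProduct.includeRight : A →ₐ[k] A ⊗[k] A).comp (AlgHom.id k A)) (Coalgebra.comul (R := k) a))
  generalize Coalgebra.comul (R := k) a = w
  induction w using TensorProduct.induction_on with
  | zero => simp
  | add p q hp hq => simp only [map_add, ← hp, ← hq]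
  | tmul p q => simp

/-- the comultiplication is homogeneous -/
theorem exists_repr {n : ℤ} {a : A} (h : Hom lam n a) :
    ∃ (ι : Type u) (s : Finset ι) (x y : ι → A) (p q : ι → ℤ),
      Coalgebra.comul (R := k) a = ∑ i ∈ s, x i ⊗ₜ y i ∧
        ∀ i ∈ s, p i + q i = n ∧ Hom lam (p i) (x i) ∧ Hom lam (q i) (y i) := by
  classical
  obtain ⟨S, hS⟩ := TensorProduct.exists_finset (Coalgebra.comul (R := k) a)
  let T : Finset (Σ _ : A × A, ℤ × ℤ) := S.sigma fun i => (cO lam i.1).coeff.support ×ˢ (cO lam i.2).coeff.support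
  refine ⟨Σ _ : A × A, ℤ × ℤ, T.filter (fun t => t.2.1 + t.2.2 = n), fun t => pr lam t.2.1 t.1.1,
    fun t => pr lam t.2.2 t.1.2, fun t => t.2.1, fun t => t.2.2, ?_,
    fun t ht => ⟨(Finset.mem_filter.1 ht).2, hom_pr lam _ _, hom_pr lam _ _⟩⟩
  have h1 := congrArg (fun w => w.coeff n) (DFunLike.congr_fun (congrArg WithConv.ofConv (orb_comul lam)) a)
  change (mapAlgHom ℤ (Bialgebra.comulAlgHom k A) (cO lam a)).coeff n = _ at h1
  rw [h, mapAlgHom_single, coeff_single_apply, if_pos rfl, mul_apply_sum _ _ S (fun i => i.1) (fun i => i.2) hS] at h1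
  refine h1.trans ?_
  rw [Finset.sum_filter, Finset.sum_sigma, AddMonoidAlgebra.coeff_sum, Finset.sum_apply']
  refine Finset.sum_congr rfl fun i _ => ?_
  rw [Finset.sum_product]
  show ((mapAlgHom ℤ (Algebra.TensorProduct.includeLeft : A →ₐ[k] A ⊗[k] A) (cO lam i.1)) *
    (mapAlgHom ℤ (Algebra.TensorProduct.includeRight : A →ₐ[k] A ⊗[k] A) (cO lam i.2))).coeff n = _
  conv_lhs => rw [← AddMonoidAlgebra.sum_single (cO lam i.1), ← AddMonoidAlgebra.sum_single (cO lam i.2)]
  rw [Finsupp.sum, Finsupp.sum, map_sum, map_sum, Finset.sum_mul_sum, AddMonoidAlgebra.coeff_sum, Finset.sum_apply']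
  refine Finset.sum_congr rfl fun p _ => ?_
  rw [AddMonoidAlgebra.coeff_sum, Finset.sum_apply']
  refine Finset.sum_congr rfl fun q _ => ?_
  rw [mapAlgHom_single, mapAlgHom_single, single_mul_single, coeff_single_apply,
    Algebra.TensorProduct.includeLeft_apply, Algebra.TensorProduct.includeRight_apply,
    Algebra.TensorProduct.tmul_mul_tmul, _root_.mul_one, _root_.one_mul]
  rfl

end Orbit

end Groth.L25.Dyn
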