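import Groth.Agent.L25.Dyn.Deform
import Mathlib.RingTheory.Etale.Basic
import Mathlib.RingTheory.Smooth.Flat
import Mathlib.AlgebraicGeometry.Morphisms.FlatMono

/-!
# The big cell of a one-parameter subgroup
-/

set_option autoImplicit false

universe u

open TensorProduct WithConv AddMonoidAlgebra CategoryTheory AlgebraicGeometry

noncomputable section

namespace Groth.L25.Dyn

variable {k : Type u} [CommRing k] {A : Type u} [CommRing A] [HopfAlgebra k A]

/-- the product of the two subgroups, on rings, as an algebra over the group -/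
def Cell (Jm Jp : Ideal A) : Type u := (A ⧸ Jm) ⊗[k] (A ⧸ Jp)

instance (Jm Jp : Ideal A) : CommRing (Cell (k := k) Jm Jp) := inferInstanceAs (CommRing ((A ⧸ Jm) ⊗[k] (A ⧸ Jp)))

instance (Jm Jp : Ideal A) : Algebra k (Cell (k := k) Jm Jp) :=
  inferInstanceAs (Algebra k ((A ⧸ Jm) ⊗[k] (A ⧸ Jp)))

section Pairs

variable (Jm Jp : Ideal A)

/-- multiplication of the two subgroups, on rings -/
def mulHom : A →ₐ[k] (A ⧸ Jm) ⊗[k] (A ⧸ Jp) :=
  (Algebra.TensorProduct.map (Ideal.Quotient.mkₐ k Jm) (Ideal.Quotient.mkₐ k Jp)).comp (Bialgebra.comulAlgHom k A)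

variable {Jm Jp} {R : Type u} [CommRing R] [Algebra k R]

/-- the first component -/
def fstPt (φ : (A ⧸ Jm) ⊗[k] (A ⧸ Jp) →ₐ[k] R) : Pt (k := k) A R :=
  toConv ((φ.comp Algebra.TensorProduct.includeLeft).comp (Ideal.Quotient.mkₐ k Jm))

/-- the second component -/
def sndPt (φ : (A ⧸ Jm) ⊗[k] (A ⧸ Jp) →ₐ[k] R) : Pt (k := k) A R :=
  toConv ((φ.comp Algebra.TensorProduct.includeRight).comp (Ideal.Quotient.mkₐ k Jp))

theorem comp_mulHom (φ : (A ⧸ Jm) ⊗[k] (A ⧸ Jp) →ₐ[k] R) :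
    toConv (φ.comp (mulHom Jm Jp)) = fstPt φ * sndPt φ := by
  refine WithConv.ext (AlgHom.ext fun a => ?_)
  show φ (Algebra.TensorProduct.map (Ideal.Quotient.mkₐ k Jm) (Ideal.Quotient.mkₐ k Jp) (Coalgebra.comul (R := k) a)) =
    Algebra.TensorProduct.lmul' k (Algebra.TensorProduct.map (fstPt φ).ofConv (sndPt φ).ofConv (Coalgebra.comul (R := k) a))
  generalize Coalgebra.comul (R := k) a = w
  induction w using TensorProduct.induction_on with
  | zero => simp
  | add x y hx hy => simp only [map_add, hx, hy]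
  | tmul x y =>
    simp only [Algebra.TensorProduct.map_tmul, Algebra.TensorProduct.lmul'_apply_tmul, fstPt, sndPt,
      WithConv.ofConv_toConv, AlgHom.comp_apply, Algebra.TensorProduct.includeLeft_apply,
      Algebra.TensorProduct.includeRight_apply, ← map_mul, Algebra.TensorProduct.tmul_mul_tmul, _root_.mul_one,
      _root_.one_mul]

theorem fst_kills (φ : (A ⧸ Jm) ⊗[k] (A ⧸ Jp) →ₐ[k] R) : ∀ a ∈ Jm, (fstPt φ).ofConv a = 0 := fun a ha => by
  show φ ((Algebra.TensorProduct.includeLeft : A ⧸ Jm →ₐ[k] (A ⧸ Jm) ⊗[k] (A ⧸ Jp)) (Ideal.Quotient.mkₐ k Jm a)) = 0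
  rw [show Ideal.Quotient.mkₐ k Jm a = 0 from Ideal.Quotient.eq_zero_iff_mem.2 ha, map_zero, map_zero]

theorem snd_kills (φ : (A ⧸ Jm) ⊗[k] (A ⧸ Jp) →ₐ[k] R) : ∀ a ∈ Jp, (sndPt φ).ofConv a = 0 := fun a ha => by
  show φ ((Algebra.TensorProduct.includeRight : A ⧸ Jp →ₐ[k] (A ⧸ Jm) ⊗[k] (A ⧸ Jp)) (Ideal.Quotient.mkₐ k Jp a)) = 0
  rw [show Ideal.Quotient.mkₐ k Jp a = 0 from Ideal.Quotient.eq_zero_iff_mem.2 ha, map_zero, map_zero]

theorem exists_pair (u p : Pt (k := k) A R) (hu : ∀ a ∈ Jm, u.ofConv a = 0) (hp : ∀ a ∈ Jp, p.ofConv a = 0) :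
    ∃ φ : (A ⧸ Jm) ⊗[k] (A ⧸ Jp) →ₐ[k] R, fstPt φ = u ∧ sndPt φ = p := by
  refine ⟨Algebra.TensorProduct.lift (Ideal.Quotient.liftₐ Jm u.ofConv hu) (Ideal.Quotient.liftₐ Jp p.ofConv hp)
    (fun _ _ => Commute.all _ _), WithConv.ext (AlgHom.ext fun a => ?_), WithConv.ext (AlgHom.ext fun a => ?_)⟩
  · simp [fstPt] <;> rfl
  · simp [sndPt] <;> rfl

theorem hom_ext_of_components {φ ψ : (A ⧸ Jm) ⊗[k] (A ⧸ Jp) →ₐ[k] R} (h1 : fstPt φ = fstPt ψ)
    (h2 : sndPt φ = sndPt ψ) : φ = ψ := by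
  apply Algebra.TensorProduct.ext
  · exact Ideal.Quotient.algHom_ext k (congrArg WithConv.ofConv h1)
  · exact Ideal.Quotient.algHom_ext k (congrArg WithConv.ofConv h2)

end Pairs

variable (lam lamNeg : A →ₐc[k] LaurentPolynomial k)
  (hneg : (lamNeg : A →ₐ[k] LaurentPolynomial k) = Dyn.negParam k A lam)

include hneg in
theorem eq_one_of_both {R : Type u} [CommRing R] [Algebra k R] (w : Pt (k := k) A R)
    (h1 : Dyn.LimIsOne k A lamNeg R w.ofConv) (h2 : Dyn.LimExists k A lam R w.ofConv) : w = 1 := by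
  obtain ⟨h1n, h10⟩ := (limIsOne_iff lamNeg _).1 h1
  have h2n := (limExists_iff lam _).1 h2
  refine WithConv.ext (AlgHom.toLinearMap_injective (LinearMap.ext fun a => eq_of_hom lam (fun n x hx => ?_) a))
  show w.ofConv x = algebraMap k R (Coalgebra.counit (R := k) x)
  rcases lt_trichotomy n 0 with h | h | h
  · rw [h2n n h x hx, counit_eq_zero lam hx h.ne, map_zero]
  · subst h
    exact h10 x ((hom_neg lam lamNeg hneg 0 x).2 (by simpa using hx))
  · rw [h1n (-n) (by omega) x ((hom_neg lam lamNeg hneg (-n) x).2 (by simpa using hx)),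
      counit_eq_zero lam hx h.ne', map_zero]

variable {Jm Jp : Ideal A} (hp : Dyn.Represents k A Jp (fun R _ _ g => Dyn.LimExists k A lam R g))
  (hm : Dyn.Represents k A Jm (fun R _ _ g => Dyn.LimIsOne k A lamNeg R g))

include hneg hp hm in
theorem epi_mulHom {R : Type u} [CommRing R] [Algebra k R] {φ ψ : (A ⧸ Jm) ⊗[k] (A ⧸ Jp) →ₐ[k] R}
    (h : φ.comp (mulHom Jm Jp) = ψ.comp (mulHom Jm Jp)) : φ = ψ := by
  have h0 : fstPt φ * sndPt φ = fstPt ψ * sndPt ψ := by rw [← comp_mulHom, ← comp_mulHom, h]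
  have hw : (fstPt ψ)⁻¹ * fstPt φ = sndPt ψ * (sndPt φ)⁻¹ := by
    rw [eq_mul_inv_iff_mul_eq, mul_assoc, h0, ← mul_assoc, inv_mul_cancel, _root_.one_mul]
  have e := eq_one_of_both lam lamNeg hneg ((fstPt ψ)⁻¹ * fstPt φ)
    (LimIsOne.mul lamNeg (LimIsOne.inv lamNeg ((hm _ _).1 (fst_kills ψ))) ((hm _ _).1 (fst_kills φ)))
    (by rw [hw]; exact LimExists.mul lam ((hp _ _).1 (snd_kills ψ)) (LimExists.inv lam ((hp _ _).1 (snd_kills φ))))
  have h1 : fstPt φ = fstPt ψ := (inv_mul_eq_one.1 e).symm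
  refine hom_ext_of_components h1 ?_
  rw [h1] at h0
  exact mul_left_cancel h0

include hneg hp hm in
theorem mono_mulHom : Mono (Spec.map (CommRingCat.ofHom (mulHom (k := k) Jm Jp).toRingHom)) := by
  haveI : Epi (CommRingCat.ofHom (mulHom (k := k) Jm Jp).toRingHom) := by
    refine ⟨fun {R} f g h => ?_⟩
    letI : Algebra k R := (f.hom.comp (algebraMap k ((A ⧸ Jm) ⊗[k] (A ⧸ Jp)))).toAlgebra
    have hfg : ∀ a, f.hom (mulHom (k := k) Jm Jp a) = g.hom (mulHom (k := k) Jm Jp a) := fun a =>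
      DFunLike.congr_fun (congrArg CommRingCat.Hom.hom h) a
    let φ : (A ⧸ Jm) ⊗[k] (A ⧸ Jp) →ₐ[k] R := { f.hom with commutes' := fun r => rfl }
    have hc : ∀ r : k, g.hom (algebraMap k ((A ⧸ Jm) ⊗[k] (A ⧸ Jp)) r) =
        f.hom (algebraMap k ((A ⧸ Jm) ⊗[k] (A ⧸ Jp)) r) := fun r => by
      rw [← (mulHom (k := k) Jm Jp).commutes r]
      exact (hfg _).symm
    let ψ : (A ⧸ Jm) ⊗[k] (A ⧸ Jp) →ₐ[k] R := { g.hom with commutes' := hc }
    have e := epi_mulHom lam lamNeg hneg hp hm (φ := φ) (ψ := ψ) (AlgHom.ext hfg)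
    exact CommRingCat.hom_ext (RingHom.ext fun a => DFunLike.congr_fun e a)
  exact Scheme.Spec.map_mono (CommRingCat.ofHom (mulHom (k := k) Jm Jp).toRingHom).op

theorem lift_split {B : Type u} [CommRing B] [Algebra k B] {J : Ideal B} (hJ : J * J = ⊥) (d : Pt (k := k) A B)
    (hd : pmap (Ideal.Quotient.mkₐ k J) d = 1) (S : ℤ → Prop) [DecidablePred S] :
    ∃ d1 d2 : Pt (k := k) A B, d1 * d2 = d ∧ pmap (Ideal.Quotient.mkₐ k J) d1 = 1 ∧
      (∀ n a, Hom lam n a → ¬ S n → d1.ofConv a = algebraMap k B (Coalgebra.counit (R := k) a)) ∧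
      (∀ n a, Hom lam n a → S n → d2.ofConv a = algebraMap k B (Coalgebra.counit (R := k) a)) := by
  let δ : A →ₗ[k] B := d.ofConv.toLinearMap - (1 : Pt (k := k) A B).ofConv.toLinearMap
  have hδ : ∀ a, δ a ∈ J := fun a => Ideal.Quotient.eq.1
    ((DFunLike.congr_fun (congrArg WithConv.ofConv hd) a).trans
      (DFunLike.congr_fun (congrArg WithConv.ofConv (map_one (pmap (k := k) (A := A) (Ideal.Quotient.mkₐ k J)))) a).symm)
  have hδd : ∀ a, d.ofConv a = algebraMap k B (Coalgebra.counit (R := k) a) + δ a := fun a =>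
    (add_sub_cancel _ _).symm
  have hsq : ∀ a b, δ a * δ b = 0 := fun a b => by
    have h := Ideal.mul_mem_mul (hδ a) (hδ b)
    rwa [hJ, Ideal.mem_bot] at h
  have hδmul : ∀ a b, δ (a * b) = Coalgebra.counit (R := k) a • δ b + Coalgebra.counit (R := k) b • δ a := by
    intro a b
    have h1 := map_mul d.ofConv a b
    rw [hδd, hδd, hδd, Bialgebra.counit_mul, map_mul] at h1
    rw [Algebra.smul_def, Algebra.smul_def]
    linear_combination h1 + hsq a b
  have part : ∀ (T : ℤ → Prop) [DecidablePred T], ∃ x : Pt (k := k) A B, ∀ a,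
      x.ofConv a = algebraMap k B (Coalgebra.counit (R := k) a) + δ (prS lam T a) := by
    intro T _
    refine exists_pt_of_der lam hJ (δ ∘ₗ prS lam T) (fun a => hδ _) fun m n a b ha hb => ?_
    show δ (prS lam T (a * b)) = _ • δ (prS lam T b) + _ • δ (prS lam T a)
    rw [(ha.mul lam hb).prS_eq, ha.prS_eq, hb.prS_eq]
    by_cases hm : m = 0
    · subst hm
      by_cases hn : n = 0
      · subst hn
        split_ifs with h1 h2 <;> simp_all
      · rw [counit_eq_zero lam hb hn, zero_smul, add_zero, zero_add]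
        split_ifs
        · rw [hδmul, counit_eq_zero lam hb hn, zero_smul, add_zero]
        · rw [map_zero, smul_zero]
    · rw [counit_eq_zero lam ha hm, zero_smul, zero_add]
      by_cases hn : n = 0
      · subst hn
        rw [add_zero]
        split_ifs
        · rw [hδmul, counit_eq_zero lam ha hm, zero_smul, zero_add]
        · rw [map_zero, smul_zero]
      · rw [counit_eq_zero lam hb hn, zero_smul]
        split_ifs
        · rw [hδmul, counit_eq_zero lam ha hm, counit_eq_zero lam hb hn, zero_smul, zero_smul, add_zero]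
        · rw [map_zero]
  obtain ⟨d1, hd1⟩ := part S
  obtain ⟨d2, hd2⟩ := part (fun n => ¬ S n)
  refine ⟨d1, d2, ?_, WithConv.ext (AlgHom.ext fun a => ?_), fun n a ha h => ?_, fun n a ha h => ?_⟩
  · refine WithConv.ext (AlgHom.ext fun a => ?_)
    refine eq_of_hom lam (f := (d1 * d2).ofConv.toLinearMap) (g := d.ofConv.toLinearMap) (fun n a ha => ?_) a
    show (lp (d1 * d2)).ofConv a = d.ofConv a
    have h1 : lp d1 = 1 + toConv (δ ∘ₗ prS lam S) := WithConv.ext (LinearMap.ext fun b => hd1 b)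
    have h2 : lp d2 = 1 + toConv (δ ∘ₗ prS lam (fun n => ¬ S n)) := WithConv.ext (LinearMap.ext fun b => hd2 b)
    have h3 : (toConv (δ ∘ₗ prS lam S) : WithConv (A →ₗ[k] B)) * toConv (δ ∘ₗ prS lam (fun n => ¬ S n)) = 0 := by
      refine WithConv.ext (LinearMap.ext fun b => ?_)
      obtain ⟨T, hT⟩ := TensorProduct.exists_finset (Coalgebra.comul (R := k) b)
      rw [lmul_apply_sum _ _ T (fun i => i.1) (fun i => i.2) hT]
      exact Finset.sum_eq_zero fun i _ => hsq _ _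
    rw [lp_mul, h1, h2, add_mul, mul_add, mul_add, h3, _root_.one_mul, _root_.one_mul, _root_.mul_one, add_zero]
    show algebraMap k B (Coalgebra.counit (R := k) a) + δ (prS lam (fun n => ¬ S n) a) + δ (prS lam S a) = d.ofConv a
    rw [ha.prS_eq, ha.prS_eq, hδd]
    by_cases hS : S n
    · rw [if_pos hS, if_neg (not_not.2 hS), map_zero, add_zero]
    · rw [if_neg hS, if_pos hS, map_zero, add_zero]
  · show Ideal.Quotient.mkₐ k J (d1.ofConv a) = algebraMap k _ (Coalgebra.counit (R := k) a)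
    rw [hd1, map_add, AlgHom.commutes, show Ideal.Quotient.mkₐ k J (δ (prS lam S a)) = 0 from
      Ideal.Quotient.eq_zero_iff_mem.2 (hδ _), add_zero]
  · rw [hd1, ha.prS_eq, if_neg h, map_zero, add_zero]
  · rw [hd2, ha.prS_eq, if_neg (not_not.2 h), map_zero, add_zero]

include hneg hp hm in
theorem exists_lift_mulHom {B : Type u} [CommRing B] [Algebra k B] {J : Ideal B} (hJ : J * J = ⊥)
    (g : A →ₐ[k] B) (φ : (A ⧸ Jm) ⊗[k] (A ⧸ Jp) →ₐ[k] B ⧸ J)
    (h : φ.comp (mulHom Jm Jp) = (Ideal.Quotient.mkₐ k J).comp g)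
    (hu : ∃ u : Pt (k := k) A B, (∀ a ∈ Jm, u.ofConv a = 0) ∧ pmap (Ideal.Quotient.mkₐ k J) u = fstPt φ)
    (hp' : ∃ p : Pt (k := k) A B, (∀ a ∈ Jp, p.ofConv a = 0) ∧ pmap (Ideal.Quotient.mkₐ k J) p = sndPt φ) :
    ∃ ψ : (A ⧸ Jm) ⊗[k] (A ⧸ Jp) →ₐ[k] B, ψ.comp (mulHom Jm Jp) = g ∧ (Ideal.Quotient.mkₐ k J).comp ψ = φ := by
  obtain ⟨u, hu1, hu2⟩ := hu
  obtain ⟨p, hp1, hp2⟩ := hp'
  let q := pmap (k := k) (A := A) (Ideal.Quotient.mkₐ k J)
  have hd : q (u⁻¹ * toConv g * p⁻¹) = 1 := by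
    rw [map_mul, map_mul, map_inv, map_inv, hu2, hp2, show q (toConv g) = fstPt φ * sndPt φ from by
      rw [← comp_mulHom, h]; rfl]
    group
  obtain ⟨d1, d2, hd12, hd1q, hd1, hd2⟩ := lift_split lam hJ _ hd (fun n => n < 0)
  have hk1 : ∀ a ∈ Jm, (u * d1).ofConv a = 0 := by
    refine (hm _ _).2 (LimIsOne.mul lamNeg ((hm _ _).1 hu1) ((limIsOne_iff lamNeg _).2 ⟨fun n hn a ha => ?_, fun a ha => ?_⟩))
    · have h' := (hom_neg lam lamNeg hneg n a).1 ha
      rw [hd1 (-n) a h' (by omega), counit_eq_zero lam h' (by omega), map_zero]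
    · exact hd1 (-0) a ((hom_neg lam lamNeg hneg 0 a).1 ha) (by omega)
  have hk2 : ∀ a ∈ Jp, (d2 * p).ofConv a = 0 := by
    refine (hp _ _).2 (LimExists.mul lam ((limExists_iff lam _).2 fun n hn a ha => ?_) ((hp _ _).1 hp1))
    rw [hd2 n a ha hn, counit_eq_zero lam ha hn.ne, map_zero]
  obtain ⟨ψ, hψ1, hψ2⟩ := exists_pair _ _ hk1 hk2
  have hd2q : q d2 = 1 := by
    have h1 := hd
    rw [← hd12, map_mul, show q d1 = 1 from hd1q, _root_.one_mul] at h1
    exact h1
  refine ⟨ψ, ?_, ?_⟩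
  · have h1 : toConv (ψ.comp (mulHom Jm Jp)) = toConv g := by
      rw [comp_mulHom, hψ1, hψ2, mul_assoc u, ← mul_assoc d1, hd12]
      group
    exact congrArg WithConv.ofConv h1
  · refine hom_ext_of_components ?_ ?_
    · show q (fstPt ψ) = fstPt φ
      rw [hψ1, map_mul, hu2, show q d1 = 1 from hd1q, _root_.mul_one]
    · show q (sndPt ψ) = sndPt φ
      rw [hψ2, map_mul, hp2, hd2q, _root_.one_mul]

include hneg hp hm in
/-- open immersion, given the lifts of the two components -/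
theorem isOpenImmersion_mulHom [Algebra.FinitePresentation k A]
    (hJm : Jm.FG) (hJp : Jp.FG)
    (hlift : ∀ {B : Type u} [CommRing B] [Algebra k B] (J : Ideal B) (_ : J * J = ⊥) (g : A →ₐ[k] B)
      (φ : (A ⧸ Jm) ⊗[k] (A ⧸ Jp) →ₐ[k] B ⧸ J), φ.comp (mulHom Jm Jp) = (Ideal.Quotient.mkₐ k J).comp g →
      (∃ u : Pt (k := k) A B, (∀ a ∈ Jm, u.ofConv a = 0) ∧ pmap (Ideal.Quotient.mkₐ k J) u = fstPt φ) ∧
      (∃ p : Pt (k := k) A B, (∀ a ∈ Jp, p.ofConv a = 0) ∧ pmap (Ideal.Quotient.mkₐ k J) p = sndPt φ)) :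
    IsOpenImmersion (Spec.map (CommRingCat.ofHom (mulHom (k := k) Jm Jp).toRingHom)) := by
  haveI := mono_mulHom lam lamNeg hneg hp hm
  let T := Cell (k := k) Jm Jp
  let μ : A →ₐ[k] T := mulHom (k := k) Jm Jp
  letI : Algebra A T := μ.toRingHom.toAlgebra
  haveI : IsScalarTower k A T := IsScalarTower.of_algebraMap_eq fun r => (μ.commutes r).symm
  haveI : Algebra.FinitePresentation k (A ⧸ Jm) := Algebra.FinitePresentation.quotient hJm
  haveI : Algebra.FinitePresentation k (A ⧸ Jp) := Algebra.FinitePresentation.quotient hJp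
  haveI : Algebra.FinitePresentation k T :=
    (Algebra.FinitePresentation.trans k (A ⧸ Jm) ((A ⧸ Jm) ⊗[k] (A ⧸ Jp)) : _)
  haveI : Algebra.FinitePresentation A T := Algebra.FinitePresentation.of_restrict_scalars_finitePresentation k A T
  haveI : Algebra.FormallySmooth A T := by
    refine Algebra.FormallySmooth.of_comp_surjective fun B _ _ J hJ f => ?_
    letI : Algebra k B := ((algebraMap A B).comp (algebraMap k A)).toAlgebra
    haveI : IsScalarTower k A B := IsScalarTower.of_algebraMap_eq fun r => rfl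
    have h : (f.restrictScalars k).comp μ = (Ideal.Quotient.mkₐ k J).comp (IsScalarTower.toAlgHom k A B) :=
      AlgHom.ext fun a => f.commutes a
    obtain ⟨hu, hp'⟩ := hlift J (by rw [← pow_two]; exact hJ) _ (f.restrictScalars k) h
    obtain ⟨ψ, h1, h2⟩ := exists_lift_mulHom lam lamNeg hneg hp hm (by rw [← pow_two]; exact hJ) _ _ h hu hp'
    exact ⟨{ ψ.toRingHom with commutes' := fun a => DFunLike.congr_fun h1 a },
      AlgHom.ext fun t => DFunLike.congr_fun h2 t⟩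
  haveI : Algebra.Smooth A T := ⟨inferInstance, inferInstance⟩
  have hF : Flat (Spec.map (CommRingCat.ofHom μ.toRingHom)) := by
    rw [HasRingHomProperty.Spec_iff (P := @Flat), CommRingCat.hom_ofHom]
    exact RingHom.flat_algebraMap_iff.2 inferInstance
  have hL : LocallyOfFinitePresentation (Spec.map (CommRingCat.ofHom μ.toRingHom)) := by
    rw [HasRingHomProperty.Spec_iff (P := @LocallyOfFinitePresentation), CommRingCat.hom_ofHom]
    exact RingHom.finitePresentation_algebraMap.2 inferInstance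
  exact @IsOpenImmersion.of_flat_of_mono _ _ _ hF hL (mono_mulHom lam lamNeg hneg hp hm)

end Groth.L25.Dyn
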