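import Groth.Agent.L25.Dyn.Cell
import Mathlib.Algebra.Polynomial.Roots

/-!
# The centralizer of a torus over a field
-/

set_option autoImplicit false

universe u

open TensorProduct WithConv AddMonoidAlgebra

noncomputable section

namespace Groth.L25.Dyn

/-- a cocharacter avoiding finitely many hyperplanes -/
theorem exists_generic {r : ℕ} (F : Finset (Fin r → ℤ)) :
    ∃ w : (Fin r → ℤ) →+ ℤ, ∀ m ∈ F, m ≠ 0 → w m ≠ 0 := by
  classical
  let P : (Fin r → ℤ) →+ Polynomial ℤ :=
    { toFun := fun m => ∑ i : Fin r, Polynomial.monomial (i : ℕ) (m i)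
      map_zero' := by simp
      map_add' := fun a b => by simp [Finset.sum_add_distrib] }
  have hP : ∀ m, m ≠ 0 → P m ≠ 0 := by
    intro m hm h
    obtain ⟨i, hi⟩ := Function.ne_iff.1 hm
    apply hi
    have h1 : (P m).coeff (i : ℕ) = 0 := by rw [h, Polynomial.coeff_zero]
    change (∑ j : Fin r, Polynomial.monomial (j : ℕ) (m j)).coeff (i : ℕ) = 0 at h1
    rw [Polynomial.finsetSum_coeff] at h1
    rw [Finset.sum_eq_single i (fun j _ hj => by
      rw [Polynomial.coeff_monomial, if_neg (fun e => hj (Fin.ext e))]) (fun h => absurd (Finset.mem_univ i) h),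
      Polynomial.coeff_monomial, if_pos rfl] at h1
    exact h1
  obtain ⟨t, ht⟩ : ∃ t : ℤ, (∏ m ∈ F.filter (· ≠ 0), P m).eval t ≠ 0 := by
    by_contra hcon
    push Not at hcon
    have := Polynomial.funext (p := ∏ m ∈ F.filter (· ≠ 0), P m) (q := 0) (fun x => by simp [hcon x])
    rw [Finset.prod_eq_zero_iff] at this
    obtain ⟨m, hm, h0⟩ := this
    exact hP m (Finset.mem_filter.1 hm).2 h0
  refine ⟨(Polynomial.evalRingHom t).toAddMonoidHom.comp P, fun m hm hm0 h => ht ?_⟩
  rw [Polynomial.eval_prod]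
  exact Finset.prod_eq_zero (Finset.mem_filter.2 ⟨hm, hm0⟩) h

variable {K : Type u} [Field K] {A : Type u} [CommRing A] [HopfAlgebra K A]
  {M : Type} [AddCommGroup M] (φ : A →ₐc[K] AddMonoidAlgebra K M)

/-- the torus with values in `C[M]` -/
def torP (C : Type u) [CommRing C] [Algebra K C] : Pt (k := K) A (AddMonoidAlgebra C M) :=
  toConv ((mapAlgHom M (Algebra.ofId K C)).comp (φ : A →ₐ[K] AddMonoidAlgebra K M))

/-- constants of `C[M]` -/
abbrev cstM (C : Type u) [CommRing C] [Algebra K C] : C →ₐ[K] AddMonoidAlgebra C M :=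
  IsScalarTower.toAlgHom K C (AddMonoidAlgebra C M)

variable {C D : Type u} [CommRing C] [Algebra K C] [CommRing D] [Algebra K D]

theorem cstM_apply (c : C) : cstM (K := K) (M := M) C c = single 0 c := rfl

theorem mapAlgHom_torP (g : C →ₐ[K] D) : pmap (mapAlgHom M g) (torP φ C) = torP φ D := by
  refine WithConv.ext ?_
  show (mapAlgHom M g).comp ((mapAlgHom M (Algebra.ofId K C)).comp (φ : A →ₐ[K] AddMonoidAlgebra K M)) = _
  rw [← AlgHom.comp_assoc, ← AddMonoidAlgebra.mapRangeAlgHom_comp]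
  exact congrArg (fun u => (mapAlgHom M u).comp (φ : A →ₐ[K] AddMonoidAlgebra K M)) (Subsingleton.elim _ _)

/-- the conjugate of the universal point by the torus -/
def torO : A →ₐ[K] AddMonoidAlgebra A M :=
  (torP φ A * pmap (cstM (M := M) A) (toConv (AlgHom.id K A)) * (torP φ A)⁻¹).ofConv

theorem mapAlgHom_torO (g : A →ₐ[K] C) :
    pmap (mapAlgHom M g) (toConv (torO φ)) =
      torP φ C * pmap (cstM (M := M) C) (toConv g) * (torP φ C)⁻¹ := by
  rw [torO, toConv_ofConv, map_mul, map_mul, map_inv, mapAlgHom_torP]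
  congr 2
  refine WithConv.ext (AlgHom.ext fun a => ?_)
  show mapAlgHom M g (single 0 a) = single 0 (g a)
  rw [mapAlgHom_single]

/-- a cocharacter of the torus -/
def lamW (w : M →+ ℤ) : A →ₐc[K] LaurentPolynomial K := (AddMonoidAlgebra.mapDomainBialgHom K w).comp φ

theorem mapDomain_torP (w : M →+ ℤ) :
    pmap (AddMonoidAlgebra.mapDomainAlgHom K C w) (torP φ C) = lamP (lamW φ w) C := by
  refine WithConv.ext (AlgHom.ext fun a => ?_)
  show AddMonoidAlgebra.mapDomainAlgHom K C w (mapAlgHom M (Algebra.ofId K C) (φ a)) =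
    mapAlgHom ℤ (Algebra.ofId K C) (AddMonoidAlgebra.mapDomainBialgHom K w (φ a))
  generalize φ a = x
  induction x using AddMonoidAlgebra.induction_linear with
  | zero => simp
  | add p q hp hq => simp only [map_add, hp, hq]
  | single m c =>
    rw [mapAlgHom_single, AddMonoidAlgebra.mapDomainBialgHom_single, mapAlgHom_single]
    exact AddMonoidAlgebra.mapDomain_single

theorem mapDomain_torO (w : M →+ ℤ) (a : A) :
    AddMonoidAlgebra.mapDomainAlgHom K A w (torO φ a) = cO (lamW φ w) a := by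
  have h : pmap (AddMonoidAlgebra.mapDomainAlgHom K A w) (toConv (torO φ)) = toConv (cO (lamW φ w)) := by
    rw [torO, toConv_ofConv, map_mul, map_mul, map_inv, mapDomain_torP, cO, conjOrbit_eq]
    congr 2
    refine WithConv.ext (AlgHom.ext fun b => ?_)
    show AddMonoidAlgebra.mapDomainAlgHom K A w (single 0 b) = single 0 b
    refine AddMonoidAlgebra.mapDomain_single.trans ?_
    rw [map_zero]
  exact DFunLike.congr_fun (congrArg WithConv.ofConv h) a

/-- the point commutes with all points of the torus -/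
def TorCommutes (g : A →ₐ[K] C) : Prop :=
  ∀ (D : Type u) [CommRing D] [Algebra K D] (ψ : C →ₐ[K] D) (χ : AddMonoidAlgebra K M →ₐ[K] D),
    Commute (toConv (χ.comp (φ : A →ₐ[K] AddMonoidAlgebra K M)) : Pt (k := K) A D) (pmap ψ (toConv g))

theorem TorCommutes.of_universal {g : A →ₐ[K] C}
    (h : Commute (torP φ C) (pmap (cstM (M := M) C) (toConv g))) : TorCommutes φ g := by
  intro D _ _ ψ χ
  let ev : AddMonoidAlgebra C M →ₐ[K] D :=
    AddMonoidAlgebra.liftNCAlgHom ψ ((χ : AddMonoidAlgebra K M →* D).comp (AddMonoidAlgebra.of K M))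
      (fun _ _ => Commute.all _ _)
  have hev : ∀ (m : M) (c : C), ev (single m c) = ψ c * χ (single m 1) := fun m c => by
    show AddMonoidAlgebra.liftNC _ _ (single m c) = _
    rw [AddMonoidAlgebra.liftNC_single]
    rfl
  have h1 : pmap ev (torP φ C) = toConv (χ.comp (φ : A →ₐ[K] AddMonoidAlgebra K M)) := by
    refine WithConv.ext (AlgHom.ext fun a => ?_)
    show ev (mapAlgHom M (Algebra.ofId K C) (φ a)) = χ (φ a)
    generalize φ a = x
    induction x using AddMonoidAlgebra.induction_linear with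
    | zero => simp
    | add p q hp hq => simp only [map_add, hp, hq]
    | single m c =>
      rw [mapAlgHom_single, hev]
      show ψ (algebraMap K C c) * χ (single m 1) = χ (single m c)
      rw [AlgHom.commutes, ← Algebra.smul_def, ← map_smul, smul_single, smul_eq_mul, _root_.mul_one]
  have h2 : pmap ev (pmap (cstM (M := M) C) (toConv g)) = pmap ψ (toConv g) := by
    refine WithConv.ext (AlgHom.ext fun a => ?_)
    show ev (single 0 (g a)) = ψ (g a)
    rw [hev, show (single 0 1 : AddMonoidAlgebra K M) = 1 from rfl, map_one, _root_.mul_one]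
  have := h.map (pmap ev)
  rwa [h1, h2] at this

theorem TorCommutes.conjOrbit {g : A →ₐ[K] C} (h : TorCommutes φ g) (w : M →+ ℤ) :
    Dyn.conjOrbit K A (lamW φ w) C g = (IsScalarTower.toAlgHom K C (LaurentPolynomial C)).comp g := by
  have h1 := h (LaurentPolynomial C) (cst C)
    ((mapAlgHom ℤ (Algebra.ofId K C)).comp (AddMonoidAlgebra.mapDomainBialgHom K w : _ →ₐ[K] LaurentPolynomial K))
  have h2 : Commute (lamP (lamW φ w) C) (pmap (cst C) (toConv g)) := h1
  have h3 := conjOrbit_eq (lamW φ w) g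
  rw [h2.eq, mul_inv_cancel_right] at h3
  exact congrArg WithConv.ofConv h3

theorem exists_cocharacter [Algebra.FiniteType K A] {r : ℕ} (φ : A →ₐc[K] AddMonoidAlgebra K (Fin r → ℤ)) :
    ∃ w : (Fin r → ℤ) →+ ℤ, ∀ (C : Type u) [CommRing C] [Algebra K C] (g : A →ₐ[K] C),
      Dyn.conjOrbit K A (lamW φ w) C g = (IsScalarTower.toAlgHom K C (LaurentPolynomial C)).comp g →
        TorCommutes φ g := by
  classical
  obtain ⟨s, hs⟩ := (‹Algebra.FiniteType K A›).out
  let F : Finset (Fin r → ℤ) := insert 0 (s.biUnion fun a => (torO φ a).coeff.support)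
  obtain ⟨w, hw⟩ := exists_generic ((F ×ˢ F).image fun p => p.1 - p.2)
  have hinj : Set.InjOn w (F : Set (Fin r → ℤ)) := by
    intro a ha b hb hab
    by_contra hne
    exact hw (a - b) (Finset.mem_image.2 ⟨(a, b), Finset.mem_product.2 ⟨ha, hb⟩, rfl⟩) (sub_ne_zero.2 hne)
      (by rw [map_sub, hab, sub_self])
  refine ⟨w, fun C _ _ g hg => TorCommutes.of_universal φ ?_⟩
  have key : (mapAlgHom (Fin r → ℤ) g).comp (torO φ) = (cstM C).comp g := by
    refine AlgHom.ext_of_adjoin_eq_top hs fun a ha => ?_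
    ext m
    show (mapAlgHom _ g (torO φ a)).coeff m = (single 0 (g a) : AddMonoidAlgebra C (Fin r → ℤ)).coeff m
    rw [coeff_mapAlgHom, coeff_single_apply]
    by_cases hm : m ∈ F
    · have h1 : (cO (lamW φ w) a).coeff (w m) = (torO φ a).coeff m := by
        rw [← mapDomain_torO]
        refine Finsupp.mapDomain_apply' (F : Set (Fin r → ℤ)) _ (fun x hx => ?_) hinj hm
        exact Finset.mem_insert_of_mem (Finset.mem_biUnion.2 ⟨a, ha, hx⟩)
      rw [← h1, ← coeff_conjOrbit, hg]
      show (single 0 (g a) : LaurentPolynomial C).coeff (w m) = _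
      rw [coeff_single_apply]
      by_cases h0 : m = 0
      · subst h0; simp
      · rw [if_neg (fun e : (0 : ℤ) = w m => h0 (hinj hm (Finset.mem_insert_self _ _) (by rw [← e, map_zero]))),
          if_neg (fun e => h0 e.symm)]
    · have h0 : (torO φ a).coeff m = 0 := Finsupp.notMem_support_iff.1 fun hx =>
        hm (Finset.mem_insert_of_mem (Finset.mem_biUnion.2 ⟨a, ha, hx⟩))
      rw [h0, map_zero, if_neg (fun e : (0 : Fin r → ℤ) = m => hm (e ▸ Finset.mem_insert_self _ _))]
  have h3 : pmap (mapAlgHom (Fin r → ℤ) g) (toConv (torO φ)) = pmap (cstM C) (toConv g) := WithConv.ext key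
  rw [mapAlgHom_torO] at h3
  exact mul_inv_eq_iff_eq_mul.1 h3

/-- the centralizer of a torus is cut out by an ideal with trivial idempotents in the quotient -/
theorem exists_centralizer_ideal [Algebra.FiniteType K A] (hA : ∀ e : A, IsIdempotentElem e → e = 0 ∨ e = 1)
    {r : ℕ} (φ : A →ₐc[K] AddMonoidAlgebra K (Fin r → ℤ)) :
    ∃ J : Ideal A, (∀ e : A ⧸ J, IsIdempotentElem e → e = 0 ∨ e = 1) ∧
      ∀ (C : Type u) [CommRing C] [Algebra K C] (g : A →ₐ[K] C), (∀ a ∈ J, g a = 0) ↔ TorCommutes φ g := by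
  obtain ⟨w, hw⟩ := exists_cocharacter φ
  let lam := lamW φ w
  obtain ⟨lamNeg, hneg⟩ := exists_neg lam
  let J := jPlus lam ⊔ jPlus lamNeg
  have hJ : ∀ (C : Type u) [CommRing C] [Algebra K C] (g : A →ₐ[K] C), (∀ a ∈ J, g a = 0) ↔
      ∀ n : ℤ, n ≠ 0 → ∀ a, Hom lam n a → g a = 0 := by
    intro C _ _ g
    constructor
    · intro h n hn a ha
      rcases lt_or_gt_of_ne hn with h' | h'
      · exact (kills_jPlus lam g).1 (fun x hx => h x (Ideal.mem_sup_left hx)) n h' a ha
      · refine (kills_jPlus lamNeg g).1 (fun x hx => h x (Ideal.mem_sup_right hx)) (-n) (by omega) a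
          ((hom_neg lam lamNeg hneg (-n) a).2 ?_)
        rwa [neg_neg]
    · intro h a ha
      refine (sup_le (fun x hx => (kills_jPlus lam g).2 (fun n hn a ha => h n (by omega) a ha) x hx)
        (fun x hx => (kills_jPlus lamNeg g).2
          (fun n hn a ha => h (-n) (by omega) a ((hom_neg lam lamNeg hneg n a).1 ha)) x hx) :
        J ≤ RingHom.ker g) ha
  refine ⟨J, fun e he => ?_, fun C _ _ g => ((hJ C g).trans (commutes_iff lam g).symm).trans
    ⟨hw C g, fun h => h.conjOrbit φ w⟩⟩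
  let q := Ideal.Quotient.mkₐ K (jPlus lam)
  obtain ⟨z, hz, hzc, -⟩ := exists_limit lam
    ((represents_jPlus lam _ q).1 fun x hx => Ideal.Quotient.eq_zero_iff_mem.2 hx)
  let s : A ⧸ J →ₐ[K] A ⧸ jPlus lam :=
    Ideal.Quotient.liftₐ J z.ofConv ((hJ _ _).2 ((commutes_iff lam _).1 hzc))
  let π : A ⧸ jPlus lam →ₐ[K] A ⧸ J :=
    Ideal.Quotient.liftₐ (jPlus lam) (Ideal.Quotient.mkₐ K J)
      (fun x hx => Ideal.Quotient.eq_zero_iff_mem.2 (Ideal.mem_sup_left hx))
  have hπ : π (s e) = e := by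
    obtain ⟨a, rfl⟩ := Ideal.Quotient.mk_surjective e
    show π (z.ofConv a) = _
    rw [hz]
    show Ideal.Quotient.mkₐ K J (pr lam 0 a) = Ideal.Quotient.mkₐ K J a
    conv_rhs => rw [← sum_pr lam a, map_sum]
    rw [Finset.sum_eq_single 0 (fun n _ hn => (hJ _ (Ideal.Quotient.mkₐ K J)).1
      (fun x hx => Ideal.Quotient.eq_zero_iff_mem.2 hx) n hn _ (hom_pr lam n a)) (fun h0 => ?_)]
    rw [show pr lam 0 a = 0 from Finsupp.notMem_support_iff.1 h0, map_zero]
  rcases idem_quotient_jPlus lam _ rfl hA (s e) (he.map s) with h | h <;> rw [← hπ, h]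
  · exact Or.inl (map_zero π)
  · exact Or.inr (map_one π)

end Groth.L25.Dyn
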