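import Groth.Agent.L25.Dyn.Grading
import Mathlib.RingTheory.HopfAlgebra.Quotient
import Mathlib.Algebra.Polynomial.Laurent

/-!
# The subgroups of points with a limit
-/

set_option autoImplicit false

universe u

open TensorProduct WithConv AddMonoidAlgebra

noncomputable section

namespace Groth.L25.Dyn

variable {k : Type u} [CommRing k] {A : Type u} [CommRing A] [HopfAlgebra k A]
  (lam : A →ₐc[k] LaurentPolynomial k)
variable {R : Type u} [CommRing R] [Algebra k R]

/-- the inclusion of polynomials -/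
abbrev inclP (R : Type u) [CommRing R] [Algebra k R] : Polynomial R →ₐ[k] LaurentPolynomial R :=
  (Polynomial.toLaurentAlg (R := R)).restrictScalars k

theorem inclP_coeff (p : Polynomial R) (n : ℕ) : (inclP (k := k) R p).coeff (n : ℤ) = p.coeff n := by
  show (Polynomial.toLaurent p).coeff (n : ℤ) = _
  rw [Polynomial.toLaurent_apply]
  exact Finsupp.mapDomain_apply Nat.cast_injective _ _

theorem inclP_coeff_neg (p : Polynomial R) {n : ℤ} (hn : n < 0) : (inclP (k := k) R p).coeff n = 0 := by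
  show (Polynomial.toLaurent p).coeff n = _
  rw [Polynomial.toLaurent_apply]
  exact Finsupp.mapDomain_notin_range _ _ fun ⟨m, hm⟩ => by omega

theorem inclP_injective : Function.Injective (inclP (k := k) R) := Polynomial.toLaurent_injective

/-- `g` kills the negative degrees -/
def NegKill (g : A →ₐ[k] R) : Prop := ∀ n : ℤ, n < 0 → ∀ a, Hom lam n a → g a = 0

/-- `g` agrees with the unit on degree zero -/
def ZeroUnit (g : A →ₐ[k] R) : Prop :=
  ∀ a, Hom lam 0 a → g a = algebraMap k R (Coalgebra.counit (R := k) a)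

theorem limExists_iff (g : A →ₐ[k] R) : Dyn.LimExists k A lam R g ↔ NegKill lam g := by
  constructor
  · rintro ⟨h, hh⟩ n hn a ha
    have h1 := congrArg (fun w => w.coeff n) (DFunLike.congr_fun hh a)
    simp only [AlgHom.comp_apply, inclP_coeff_neg (k := k) (h a) hn, ha.conjOrbit, coeff_single,
      Finsupp.single_eq_same] at h1
    exact h1.symm
  · intro hg
    have hmem : ∀ a, Dyn.conjOrbit k A lam R g a ∈ (inclP (k := k) R).range := by
      intro a
      rw [← sum_pr lam a, map_sum]
      refine Subalgebra.sum_mem _ fun n _ => ?_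
      rw [(hom_pr lam n a).conjOrbit]
      by_cases hn : n < 0
      · rw [hg n hn _ (hom_pr lam n a), single_zero]
        exact Subalgebra.zero_mem _
      · refine ⟨Polynomial.C (g (pr lam n a)) * Polynomial.X ^ n.toNat, ?_⟩
        show Polynomial.toLaurent _ = _
        rw [Polynomial.toLaurent_C_mul_X_pow, ← LaurentPolynomial.single_eq_C_mul_T,
          Int.toNat_of_nonneg (le_of_not_gt hn)]
    let e := AlgEquiv.ofInjective (inclP (k := k) R) inclP_injective
    refine ⟨(e.symm : _ →ₐ[k] Polynomial R).comp ((Dyn.conjOrbit k A lam R g).codRestrict _ hmem), ?_⟩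
    refine AlgHom.ext fun a => ?_
    exact congrArg Subtype.val (e.apply_symm_apply ⟨_, hmem a⟩)

theorem eval_zero (g : A →ₐ[k] R) (h : A →ₐ[k] Polynomial R)
    (hh : (inclP (k := k) R).comp h = Dyn.conjOrbit k A lam R g) (a : A) :
    ((Polynomial.aeval (R := R) (0 : R)).restrictScalars k).comp h a = g (pr lam 0 a) := by
  show Polynomial.aeval (0 : R) (h a) = _
  rw [Polynomial.coe_aeval_eq_eval, ← Polynomial.coeff_zero_eq_eval_zero, ← inclP_coeff (k := k)]
  rw [show inclP (k := k) R (h a) = Dyn.conjOrbit k A lam R g a from DFunLike.congr_fun hh a, coeff_conjOrbit]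
  rfl

theorem counit_pr_zero (a : A) : Coalgebra.counit (R := k) (pr lam 0 a) = Coalgebra.counit (R := k) a := by
  conv_rhs => rw [← sum_pr lam a, map_sum]
  rw [Finset.sum_eq_single 0 (fun n _ hn => counit_eq_zero lam (hom_pr lam n a) hn)]
  intro h0
  have : pr lam 0 a = 0 := Finsupp.notMem_support_iff.1 h0
  rw [this, map_zero]

theorem limIsOne_iff (g : A →ₐ[k] R) : Dyn.LimIsOne k A lam R g ↔ NegKill lam g ∧ ZeroUnit lam g := by
  constructor
  · rintro ⟨h, hh, h0⟩
    refine ⟨(limExists_iff lam g).1 ⟨h, hh⟩, fun a ha => ?_⟩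
    have h1 := DFunLike.congr_fun h0 a
    rw [eval_zero lam g h hh, ha.pr_eq, if_pos rfl] at h1
    exact h1
  · rintro ⟨hn, h0⟩
    obtain ⟨h, hh⟩ := (limExists_iff lam g).2 hn
    refine ⟨h, hh, AlgHom.ext fun a => ?_⟩
    rw [eval_zero lam g h hh, h0 _ (hom_pr lam 0 a), counit_pr_zero]
    rfl

theorem commutes_iff (g : A →ₐ[k] R) :
    Dyn.conjOrbit k A lam R g = (IsScalarTower.toAlgHom k R (LaurentPolynomial R)).comp g ↔
      ∀ n : ℤ, n ≠ 0 → ∀ a, Hom lam n a → g a = 0 := by
  constructor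
  · intro h n hn a ha
    have h1 := congrArg (fun w => w.coeff n) (DFunLike.congr_fun h a)
    simp only [ha.conjOrbit, coeff_single, Finsupp.single_eq_same] at h1
    rw [h1]
    show (single 0 (g a) : LaurentPolynomial R).coeff n = 0
    rw [coeff_single, Finsupp.single_eq_of_ne hn]
  · intro h
    refine AlgHom.ext fun a => ?_
    rw [← sum_pr lam a, map_sum, map_sum]
    refine Finset.sum_congr rfl fun n _ => ?_
    rw [(hom_pr lam n a).conjOrbit]
    show single n (g (pr lam n a)) = single 0 (g (pr lam n a))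
    by_cases hn : n = 0
    · subst hn; rfl
    · rw [h n hn _ (hom_pr lam n a), single_zero, single_zero]

/-- the ideal of the points with a limit -/
def jPlus : Ideal A := Ideal.span {a | ∃ n : ℤ, n < 0 ∧ Hom lam n a}

/-- the ideal of the points with limit one -/
def jU : Ideal A := jPlus lam ⊔
  Ideal.span {a | ∃ x, Hom lam 0 x ∧ a = x - algebraMap k A (Coalgebra.counit (R := k) x)}

theorem kills_jPlus (g : A →ₐ[k] R) : (∀ a ∈ jPlus lam, g a = 0) ↔ NegKill lam g := by
  constructor
  · exact fun h n hn a ha => h a (Ideal.subset_span ⟨n, hn, ha⟩)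
  · intro h a ha
    exact (Ideal.span_le.2 (fun x ⟨n, hn, hx⟩ => h n hn x hx) : jPlus lam ≤ RingHom.ker g) ha

theorem kills_jU (g : A →ₐ[k] R) : (∀ a ∈ jU lam, g a = 0) ↔ NegKill lam g ∧ ZeroUnit lam g := by
  constructor
  · intro h
    refine ⟨(kills_jPlus lam g).1 fun a ha => h a (Ideal.mem_sup_left ha), fun a ha => ?_⟩
    have h1 := h _ (Ideal.mem_sup_right (Ideal.subset_span ⟨a, ha, rfl⟩))
    rwa [map_sub, sub_eq_zero, AlgHom.commutes] at h1
  · rintro ⟨h1, h2⟩ a ha
    refine (sup_le (fun x hx => (kills_jPlus lam g).2 h1 x hx) (Ideal.span_le.2 ?_) :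
      jU lam ≤ RingHom.ker g) ha
    rintro x ⟨y, hy, rfl⟩
    show g _ = 0
    rw [map_sub, AlgHom.commutes, h2 y hy, sub_self]

theorem represents_jPlus : Dyn.Represents k A (jPlus lam) (fun R _ _ g => Dyn.LimExists k A lam R g) :=
  fun R _ _ g => (kills_jPlus lam g).trans (limExists_iff lam g).symm

theorem represents_jU : Dyn.Represents k A (jU lam) (fun R _ _ g => Dyn.LimIsOne k A lam R g) :=
  fun R _ _ g => (kills_jU lam g).trans (limIsOne_iff lam g).symm

theorem represents_unique {J J' : Ideal A} {P : ∀ (R : Type u) [CommRing R] [Algebra k R], (A →ₐ[k] R) → Prop}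
    (h : Dyn.Represents k A J P) (h' : Dyn.Represents k A J' P) : J = J' := by
  refine le_antisymm (fun a ha => ?_) (fun a ha => ?_)
  · exact Ideal.Quotient.eq_zero_iff_mem.1 (((h _ (Ideal.Quotient.mkₐ k J')).2
      ((h' _ (Ideal.Quotient.mkₐ k J')).1 fun x hx => Ideal.Quotient.eq_zero_iff_mem.2 hx)) a ha)
  · exact Ideal.Quotient.eq_zero_iff_mem.1 (((h' _ (Ideal.Quotient.mkₐ k J)).2
      ((h _ (Ideal.Quotient.mkₐ k J)).1 fun x hx => Ideal.Quotient.eq_zero_iff_mem.2 hx)) a ha)

/-- an ideal representing a subgroup is a Hopf ideal -/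
theorem isHopfIdeal_of_represents {J : Ideal A} {P : ∀ (R : Type u) [CommRing R] [Algebra k R], (A →ₐ[k] R) → Prop}
    (h : Dyn.Represents k A J P) (h1 : P k (1 : Pt (k := k) A k).ofConv)
    (hmul : ∀ (R : Type u) [CommRing R] [Algebra k R] (f g : Pt (k := k) A R),
      P R f.ofConv → P R g.ofConv → P R (f * g).ofConv)
    (hinv : ∀ (R : Type u) [CommRing R] [Algebra k R] (f : Pt (k := k) A R), P R f.ofConv → P R (f⁻¹).ofConv) :
    J.IsHopfIdeal k := by
  let q : A →ₐ[k] A ⧸ J := Ideal.Quotient.mkₐ k J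
  have hq : P _ q := (h _ q).1 fun x hx => Ideal.Quotient.eq_zero_iff_mem.2 hx
  have hcomp : ∀ (R : Type u) [CommRing R] [Algebra k R] (φ : A ⧸ J →ₐ[k] R), P R (φ.comp q) := fun R _ _ φ =>
    (h R (φ.comp q)).1 fun x hx => by
      show φ (q x) = 0
      rw [show q x = 0 from Ideal.Quotient.eq_zero_iff_mem.2 hx, map_zero]
  refine { counit_eq_zero := fun x hx => (h k _).2 h1 x hx, map_mkQ_comul_eq_zero := ?_, antipode_mem := ?_ }
  · intro x hx
    have hm := (h ((A ⧸ J) ⊗[k] (A ⧸ J)) _).2 (hmul _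
      (toConv ((Algebra.TensorProduct.includeLeft : A ⧸ J →ₐ[k] (A ⧸ J) ⊗[k] (A ⧸ J)).comp q))
      (toConv ((Algebra.TensorProduct.includeRight : A ⧸ J →ₐ[k] (A ⧸ J) ⊗[k] (A ⧸ J)).comp q))
      (hcomp _ _) (hcomp _ _)) x hx
    change Algebra.TensorProduct.lmul' k (Algebra.TensorProduct.map _ _ (Coalgebra.comul (R := k) x)) = 0 at hm
    have key : ∀ w : A ⊗[k] A, Algebra.TensorProduct.lmul' k (Algebra.TensorProduct.map
        ((Algebra.TensorProduct.includeLeft : A ⧸ J →ₐ[k] (A ⧸ J) ⊗[k] (A ⧸ J)).comp q)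
        ((Algebra.TensorProduct.includeRight : A ⧸ J →ₐ[k] (A ⧸ J) ⊗[k] (A ⧸ J)).comp q) w) =
      Algebra.TensorProduct.map q q w := by
      intro w
      induction w using TensorProduct.induction_on with
      | zero => simp
      | add a b ha hb => simp only [map_add, ha, hb]
      | tmul a b => simp
    rw [key] at hm
    exact hm
  · intro x hx
    exact Ideal.Quotient.eq_zero_iff_mem.1 ((h _ _).2 (hinv _ (toConv q) hq) x hx)

theorem limExists_one : Dyn.LimExists k A lam R (1 : Pt (k := k) A R).ofConv :=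
  ⟨(1 : Pt (k := k) A (Polynomial R)).ofConv, congrArg WithConv.ofConv
    ((map_one (pmap (inclP R))).trans (map_one (orb lam R)).symm)⟩

theorem limIsOne_one : Dyn.LimIsOne k A lam R (1 : Pt (k := k) A R).ofConv :=
  ⟨(1 : Pt (k := k) A (Polynomial R)).ofConv, congrArg WithConv.ofConv
    ((map_one (pmap (inclP R))).trans (map_one (orb lam R)).symm),
    congrArg WithConv.ofConv (map_one (pmap ((Polynomial.aeval (R := R) (0 : R)).restrictScalars k)))⟩

/-- the orbit and the limit as a subgroup -/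
theorem LimExists.mul {f g : Pt (k := k) A R} (hf : Dyn.LimExists k A lam R f.ofConv)
    (hg : Dyn.LimExists k A lam R g.ofConv) : Dyn.LimExists k A lam R (f * g).ofConv := by
  obtain ⟨a, ha⟩ := hf
  obtain ⟨b, hb⟩ := hg
  refine ⟨(toConv a * toConv b).ofConv, ?_⟩
  refine congrArg WithConv.ofConv (((map_mul (pmap (inclP R)) (toConv a) (toConv b)).trans ?_).trans
    (map_mul (orb lam R) f g).symm)
  exact congrArg₂ (· * ·) (WithConv.ext ha) (WithConv.ext hb)

theorem LimExists.inv {f : Pt (k := k) A R} (hf : Dyn.LimExists k A lam R f.ofConv) :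
    Dyn.LimExists k A lam R (f⁻¹).ofConv := by
  obtain ⟨a, ha⟩ := hf
  refine ⟨((toConv a : Pt (k := k) A (Polynomial R))⁻¹).ofConv, ?_⟩
  refine congrArg WithConv.ofConv (((map_inv (pmap (inclP R)) (toConv a)).trans ?_).trans (map_inv (orb lam R) f).symm)
  exact congrArg Inv.inv (WithConv.ext ha)

theorem LimIsOne.mul {f g : Pt (k := k) A R} (hf : Dyn.LimIsOne k A lam R f.ofConv)
    (hg : Dyn.LimIsOne k A lam R g.ofConv) : Dyn.LimIsOne k A lam R (f * g).ofConv := by
  obtain ⟨a, ha, ha0⟩ := hf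
  obtain ⟨b, hb, hb0⟩ := hg
  refine ⟨(toConv a * toConv b).ofConv, ?_, ?_⟩
  · refine congrArg WithConv.ofConv (((map_mul (pmap (inclP R)) (toConv a) (toConv b)).trans ?_).trans
      (map_mul (orb lam R) f g).symm)
    exact congrArg₂ (· * ·) (WithConv.ext ha) (WithConv.ext hb)
  · refine congrArg WithConv.ofConv ((map_mul (pmap ((Polynomial.aeval (R := R) (0 : R)).restrictScalars k))
      (toConv a) (toConv b)).trans ?_)
    exact (congrArg₂ (· * ·) (WithConv.ext ha0 : pmap _ (toConv a) = 1) (WithConv.ext hb0 : pmap _ (toConv b) = 1)).trans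
      (_root_.one_mul 1)

theorem LimIsOne.inv {f : Pt (k := k) A R} (hf : Dyn.LimIsOne k A lam R f.ofConv) :
    Dyn.LimIsOne k A lam R (f⁻¹).ofConv := by
  obtain ⟨a, ha, ha0⟩ := hf
  refine ⟨((toConv a : Pt (k := k) A (Polynomial R))⁻¹).ofConv, ?_, ?_⟩
  · refine congrArg WithConv.ofConv (((map_inv (pmap (inclP R)) (toConv a)).trans ?_).trans (map_inv (orb lam R) f).symm)
    exact congrArg Inv.inv (WithConv.ext ha)
  · refine congrArg WithConv.ofConv ((map_inv (pmap ((Polynomial.aeval (R := R) (0 : R)).restrictScalars k))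
      (toConv a)).trans ?_)
    exact (congrArg Inv.inv (WithConv.ext ha0 : pmap _ (toConv a) = 1)).trans inv_one

theorem isHopfIdeal_jPlus : (jPlus lam).IsHopfIdeal k :=
  isHopfIdeal_of_represents (represents_jPlus lam) (limExists_one lam)
    (fun _ _ _ _ _ => LimExists.mul lam) (fun _ _ _ _ => LimExists.inv lam)

theorem isHopfIdeal_jU : (jU lam).IsHopfIdeal k :=
  isHopfIdeal_of_represents (represents_jU lam) (limIsOne_one lam)
    (fun _ _ _ _ _ => LimIsOne.mul lam) (fun _ _ _ _ => LimIsOne.inv lam)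

/-- the limit point -/
theorem exists_limit {g : A →ₐ[k] R} (hg : Dyn.LimExists k A lam R g) :
    ∃ z : Pt (k := k) A R, (∀ a, z.ofConv a = g (pr lam 0 a)) ∧
      Dyn.conjOrbit k A lam R z.ofConv = (IsScalarTower.toAlgHom k R (LaurentPolynomial R)).comp z.ofConv ∧
      Dyn.LimIsOne k A lam R (z⁻¹ * toConv g).ofConv := by
  obtain ⟨h, hh⟩ := hg
  let ev : Polynomial R →ₐ[k] R := (Polynomial.aeval (R := R) (0 : R)).restrictScalars k
  let z : Pt (k := k) A R := pmap ev (toConv h)
  have hz : ∀ a, z.ofConv a = g (pr lam 0 a) := eval_zero lam g h hh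
  have hzc : Dyn.conjOrbit k A lam R z.ofConv = (IsScalarTower.toAlgHom k R (LaurentPolynomial R)).comp z.ofConv :=
    (commutes_iff lam _).2 fun n hn a ha => by rw [hz, ha.pr_eq, if_neg hn, map_zero]
  refine ⟨z, hz, hzc, ?_⟩
  let c : R →ₐ[k] Polynomial R := IsScalarTower.toAlgHom k R (Polynomial R)
  refine ⟨((pmap c z)⁻¹ * toConv h).ofConv, ?_, ?_⟩
  · refine congrArg WithConv.ofConv ((?_ : pmap (inclP R) ((pmap c z)⁻¹ * toConv h) = orb lam R (z⁻¹ * toConv g)))
    rw [map_mul, map_mul, map_inv, map_inv]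
    refine congrArg₂ (fun p q => p⁻¹ * q) (WithConv.ext ?_) (WithConv.ext hh)
    refine Eq.trans (AlgHom.ext fun a => ?_) hzc.symm
    show Polynomial.toLaurent (Polynomial.C (z.ofConv a)) = single 0 (z.ofConv a)
    rw [Polynomial.toLaurent_C]
    rfl
  · refine congrArg WithConv.ofConv ((?_ : pmap ev ((pmap c z)⁻¹ * toConv h) = 1))
    rw [map_mul, map_inv]
    have h1 : pmap ev (pmap c z) = z := WithConv.ext (AlgHom.ext fun a => by
      show Polynomial.aeval (0 : R) (algebraMap R (Polynomial R) (z.ofConv a)) = z.ofConv a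
      simp)
    rw [h1]
    exact inv_mul_cancel z

theorem limit_unique {z u : Pt (k := k) A R}
    (hz : Dyn.conjOrbit k A lam R z.ofConv = (IsScalarTower.toAlgHom k R (LaurentPolynomial R)).comp z.ofConv)
    (hu : Dyn.LimIsOne k A lam R u.ofConv) (a : A) : z.ofConv a = (z * u).ofConv (pr lam 0 a) := by
  obtain ⟨h, hh, h0⟩ := hu
  let ev : Polynomial R →ₐ[k] R := (Polynomial.aeval (R := R) (0 : R)).restrictScalars k
  let c : R →ₐ[k] Polynomial R := IsScalarTower.toAlgHom k R (Polynomial R)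
  have h1 : (inclP (k := k) R).comp (pmap c z * toConv h).ofConv = Dyn.conjOrbit k A lam R (z * u).ofConv := by
    refine congrArg WithConv.ofConv ((?_ : pmap (inclP R) (pmap c z * toConv h) = orb lam R (z * u)))
    rw [map_mul, map_mul]
    refine congrArg₂ (· * ·) (WithConv.ext ?_) (WithConv.ext hh)
    refine Eq.trans (AlgHom.ext fun a => ?_) hz.symm
    show Polynomial.toLaurent (Polynomial.C (z.ofConv a)) = single 0 (z.ofConv a)
    rw [Polynomial.toLaurent_C]
    rfl
  have h2 : pmap ev (pmap c z * toConv h) = z := by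
    rw [map_mul]
    have h4 : pmap ev (toConv h) = 1 := WithConv.ext h0
    rw [h4, _root_.mul_one]
    exact WithConv.ext (AlgHom.ext fun b => by
      show Polynomial.aeval (0 : R) (algebraMap R (Polynomial R) (z.ofConv b)) = z.ofConv b
      simp)
  rw [← eval_zero lam _ _ h1 a]
  exact DFunLike.congr_fun (congrArg WithConv.ofConv h2).symm a

theorem conjOrbit_neg (lamNeg : A →ₐc[k] LaurentPolynomial k)
    (hneg : (lamNeg : A →ₐ[k] LaurentPolynomial k) = Dyn.negParam k A lam) (g : A →ₐ[k] R) :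
    Dyn.conjOrbit k A lamNeg R g =
      ((LaurentPolynomial.invert (R := R)).toAlgHom.restrictScalars k).comp (Dyn.conjOrbit k A lam R g) := by
  let ι : LaurentPolynomial R →ₐ[k] LaurentPolynomial R :=
    (LaurentPolynomial.invert (R := R)).toAlgHom.restrictScalars k
  have hl : lamP lamNeg R = pmap ι (lamP lam R) := by
    refine WithConv.ext (AlgHom.ext fun a => ?_)
    show mapAlgHom ℤ (Algebra.ofId k R) ((lamNeg : A →ₐ[k] LaurentPolynomial k) a) =
      LaurentPolynomial.invert (mapAlgHom ℤ (Algebra.ofId k R) (lam a))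
    rw [hneg]
    show mapAlgHom ℤ (Algebra.ofId k R) (LaurentPolynomial.invert (lam a)) = _
    ext n
    simp [coeff_mapAlgHom]
  have hc : pmap (cst R) (toConv g) = pmap ι (pmap (cst R) (toConv g)) := by
    refine WithConv.ext (AlgHom.ext fun a => ?_)
    show cst (k := k) R (g a) = LaurentPolynomial.invert (algebraMap R (LaurentPolynomial R) (g a))
    rw [AlgEquiv.commutes]
    rfl
  refine congrArg WithConv.ofConv ((?_ : toConv (Dyn.conjOrbit k A lamNeg R g) =
    pmap ι (toConv (Dyn.conjOrbit k A lam R g))))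
  rw [conjOrbit_eq, conjOrbit_eq, map_mul, map_mul, map_inv, hl, ← hc]

theorem hom_neg (lamNeg : A →ₐc[k] LaurentPolynomial k)
    (hneg : (lamNeg : A →ₐ[k] LaurentPolynomial k) = Dyn.negParam k A lam) (n : ℤ) (a : A) :
    Hom lamNeg n a ↔ Hom lam (-n) a := by
  have h : cO lamNeg a = LaurentPolynomial.invert (cO lam a) :=
    DFunLike.congr_fun (conjOrbit_neg lam lamNeg hneg (AlgHom.id k A)) a
  constructor
  · intro ha
    have h1 := congrArg LaurentPolynomial.invert (h.symm.trans ha)
    rw [LaurentPolynomial.involutive_invert] at h1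
    rw [Hom, h1]
    ext m
    rw [LaurentPolynomial.invert_apply, coeff_single, coeff_single, Finsupp.single_apply, Finsupp.single_apply]
    split_ifs <;> first | rfl | (exfalso; omega)
  · intro ha
    rw [Hom, h, ha]
    ext m
    rw [LaurentPolynomial.invert_apply, coeff_single, coeff_single, Finsupp.single_apply, Finsupp.single_apply]
    split_ifs <;> first | rfl | (exfalso; omega)

end Groth.L25.Dyn
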