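import Groth.Agent.L25.Dyn.Ideals
import Mathlib.RingTheory.Smooth.Basic
import Mathlib.RingTheory.FiniteType
import Mathlib.RingTheory.FinitePresentation

/-!
# Infinitesimal deformations of the subgroups of points with a limit
-/

set_option autoImplicit false

universe u

open TensorProduct WithConv AddMonoidAlgebra

noncomputable section

namespace Groth.L25.Dyn

variable {k : Type u} [CommRing k] {A : Type u} [CommRing A] [HopfAlgebra k A]
  (lam : A →ₐc[k] LaurentPolynomial k)
variable {B : Type u} [CommRing B] [Algebra k B]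

/-- the coefficients, as a linear map -/
def coeffLin : LaurentPolynomial A →ₗ[k] (ℤ →₀ A) where
  toFun w := w.coeff
  map_add' x y := by simp
  map_smul' r x := by simp

/-- the projection on the degrees in a set -/
def prS (S : ℤ → Prop) [DecidablePred S] : A →ₗ[k] A :=
  (Finsupp.lsum k fun n => if S n then (LinearMap.id : A →ₗ[k] A) else 0) ∘ₗ coeffLin ∘ₗ (cO lam).toLinearMap

theorem Hom.prS_eq {S : ℤ → Prop} [DecidablePred S] {n : ℤ} {a : A} (h : Hom lam n a) :
    prS lam S a = if S n then a else 0 := by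
  show (Finsupp.lsum k fun n => if S n then (LinearMap.id : A →ₗ[k] A) else 0) (cO lam a).coeff = _
  rw [h, coeff_single, Finsupp.lsum_single]
  split_ifs <;> rfl

/-- a relation between linear maps can be checked on homogeneous elements -/
theorem eq_of_hom {M : Type*} [AddCommMonoid M] [Module k M] {f g : A →ₗ[k] M}
    (h : ∀ n a, Hom lam n a → f a = g a) (a : A) : f a = g a := by
  rw [← sum_pr lam a, map_sum, map_sum]
  exact Finset.sum_congr rfl fun n _ => h n _ (hom_pr lam n a)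

theorem lmul_apply_sum (f g : WithConv (A →ₗ[k] B)) {a : A} {ι : Type*} (s : Finset ι) (x y : ι → A)
    (h : Coalgebra.comul (R := k) a = ∑ i ∈ s, x i ⊗ₜ y i) :
    (f * g).ofConv a = ∑ i ∈ s, f.ofConv (x i) * g.ofConv (y i) := by
  simp only [LinearMap.convMul_def, LinearMap.comp_apply, WithConv.ofConv_toConv, h, map_sum,
    TensorProduct.map_tmul, LinearMap.mul'_apply]

/-- the linear map of a point -/
abbrev lp (g : Pt (k := k) A B) : WithConv (A →ₗ[k] B) := toConv g.ofConv.toLinearMap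

theorem lp_mul (f g : Pt (k := k) A B) : lp (f * g) = lp f * lp g := AlgHom.toLinearMap_convMul f g

theorem lp_one : lp (1 : Pt (k := k) A B) = 1 := AlgHom.toLinearMap_convOne

/-- a point from a derivation at the unit -/
theorem exists_pt_of_der {J : Ideal B} (hJ : J * J = ⊥) (δ : A →ₗ[k] B) (hδ : ∀ a, δ a ∈ J)
    (hder : ∀ (m n : ℤ) (a b : A), Hom lam m a → Hom lam n b →
      δ (a * b) = Coalgebra.counit (R := k) a • δ b + Coalgebra.counit (R := k) b • δ a) :
    ∃ x : Pt (k := k) A B, ∀ a, x.ofConv a = algebraMap k B (Coalgebra.counit (R := k) a) + δ a := by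
  have hsq : ∀ a b, δ a * δ b = 0 := fun a b => by
    have h := Ideal.mul_mem_mul (hδ a) (hδ b)
    rwa [hJ, Ideal.mem_bot] at h
  have hall : ∀ a b, δ (a * b) = Coalgebra.counit (R := k) a • δ b + Coalgebra.counit (R := k) b • δ a := by
    intro a b
    refine eq_of_hom lam (f := δ ∘ₗ LinearMap.mulRight k b)
      (g := (Coalgebra.counit (R := k) (A := A)).smulRight (δ b) + Coalgebra.counit (R := k) b • δ)
      (fun m x hx => ?_) a
    show δ (x * b) = Coalgebra.counit (R := k) x • δ b + Coalgebra.counit (R := k) b • δ x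
    exact eq_of_hom lam (f := δ ∘ₗ LinearMap.mulLeft k x)
      (g := Coalgebra.counit (R := k) x • δ + (Coalgebra.counit (R := k) (A := A)).smulRight (δ x))
      (fun n y hy => hder m n x y hx hy) b
  have h1 : δ 1 = 0 := by
    have h := hall 1 1
    rw [_root_.mul_one, Bialgebra.counit_one, one_smul] at h
    exact left_eq_add.1 h
  refine ⟨toConv (AlgHom.ofLinearMap (Algebra.linearMap k B ∘ₗ (Coalgebra.counit (R := k) (A := A)) + δ)
    (by simp [h1]) (fun a b => ?_)), fun a => rfl⟩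
  simp only [LinearMap.add_apply, LinearMap.comp_apply, Algebra.linearMap_apply, Bialgebra.counit_mul, map_mul, hall,
    Algebra.smul_def]
  linear_combination -(hsq a b)

theorem exists_negKill_lift {J : Ideal B} (hJ : J * J = ⊥) (g : Pt (k := k) A B)
    (hg : NegKill lam ((Ideal.Quotient.mkₐ k J).comp g.ofConv)) :
    ∃ g1 : Pt (k := k) A B, NegKill lam g1.ofConv ∧
      pmap (Ideal.Quotient.mkₐ k J) g1 = pmap (Ideal.Quotient.mkₐ k J) g := by
  classical
  let q := Ideal.Quotient.mkₐ k J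
  have hgJ : ∀ n : ℤ, n < 0 → ∀ a, Hom lam n a → g.ofConv a ∈ J := fun n hn a ha =>
    Ideal.Quotient.eq_zero_iff_mem.1 (hg n hn a ha)
  have hg'J : ∀ n : ℤ, n < 0 → ∀ a, Hom lam n a → (g⁻¹).ofConv a ∈ J := fun n hn a ha => by
    have h2 : Dyn.LimExists k A lam _ ((pmap q g)⁻¹).ofConv := LimExists.inv lam ((limExists_iff lam _).2 hg)
    rw [← map_inv] at h2
    exact Ideal.Quotient.eq_zero_iff_mem.1 ((limExists_iff lam _).1 h2 n hn a ha)
  have hsq : ∀ a b, a ∈ J → b ∈ J → a * b = 0 := fun a b ha hb => by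
    have h := Ideal.mul_mem_mul ha hb
    rwa [hJ, Ideal.mem_bot] at h
  let pN := prS lam (fun n => n < 0)
  have hpN : ∀ a, g.ofConv (pN a) ∈ J := fun a => by
    rw [← sum_pr lam a, map_sum, map_sum]
    refine sum_mem fun n _ => ?_
    rw [(hom_pr lam n a).prS_eq]
    split_ifs with h
    · exact hgJ n h _ (hom_pr lam n a)
    · rw [map_zero]; exact zero_mem _
  let H : WithConv (A →ₗ[k] B) := lp g * toConv ((g⁻¹).ofConv.toLinearMap ∘ₗ pN)
  let E : WithConv (A →ₗ[k] B) := toConv (g.ofConv.toLinearMap ∘ₗ pN) * lp g⁻¹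
  have hEJ : ∀ a, E.ofConv a ∈ J := fun a => by
    obtain ⟨S, hS⟩ := TensorProduct.exists_finset (Coalgebra.comul (R := k) a)
    rw [lmul_apply_sum _ _ S (fun i => i.1) (fun i => i.2) hS]
    exact sum_mem fun i _ => J.mul_mem_right _ (hpN _)
  have hN : ∀ (n : ℤ) (a : A), Hom lam n a → H.ofConv a ∈ J := fun n a ha => by
    obtain ⟨ι, s, x, y, p, q', hΔ, hs⟩ := exists_repr lam ha
    rw [lmul_apply_sum _ _ s x y hΔ]
    refine sum_mem fun i hi => J.mul_mem_left _ ?_
    show (g⁻¹).ofConv (pN (y i)) ∈ J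
    rw [(hs i hi).2.2.prS_eq]
    split_ifs with h
    · exact hg'J _ h _ (hs i hi).2.2
    · rw [map_zero]; exact zero_mem _
  have hHE : ∀ (n : ℤ) (a : A), n < 0 → Hom lam n a → H.ofConv a = - E.ofConv a := by
    intro n a hn ha
    obtain ⟨ι, s, x, y, p, q', hΔ, hs⟩ := exists_repr lam ha
    rw [eq_neg_iff_add_eq_zero, lmul_apply_sum _ _ s x y hΔ, lmul_apply_sum _ _ s x y hΔ, ← Finset.sum_add_distrib]
    have h0 : ∑ i ∈ s, g.ofConv (x i) * (g⁻¹).ofConv (y i) = 0 := by
      rw [← mul_apply_sum g g⁻¹ s x y hΔ, mul_inv_cancel]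
      show algebraMap k B (Coalgebra.counit (R := k) a) = 0
      rw [counit_eq_zero lam ha hn.ne, map_zero]
    refine Eq.trans (Finset.sum_congr rfl fun i hi => ?_) h0
    show g.ofConv (x i) * (g⁻¹).ofConv (pN (y i)) + g.ofConv (pN (x i)) * (g⁻¹).ofConv (y i) = _
    obtain ⟨hpq, hx, hy⟩ := hs i hi
    rw [hx.prS_eq, hy.prS_eq]
    by_cases h1 : p i < 0 <;> by_cases h2 : q' i < 0
    · rw [if_pos h1, if_pos h2, hsq _ _ (hgJ _ h1 _ hx) (hg'J _ h2 _ hy), add_zero]
    · rw [if_pos h1, if_neg h2, map_zero, mul_zero, zero_add]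
    · rw [if_neg h1, if_pos h2, map_zero, zero_mul, add_zero]
    · omega
  have hHder : ∀ (m n : ℤ) (a b : A), m + n < 0 → Hom lam m a → Hom lam n b →
      H.ofConv (a * b) = Coalgebra.counit (R := k) a • H.ofConv b + Coalgebra.counit (R := k) b • H.ofConv a := by
    intro m n a b hmn ha hb
    obtain ⟨ι, s, x, y, p, q', hΔ, hs⟩ := exists_repr lam ha
    obtain ⟨ι', s', x', y', p', q'', hΔ', hs'⟩ := exists_repr lam hb
    have hab : Coalgebra.comul (R := k) (a * b) = ∑ t ∈ s ×ˢ s', (x t.1 * x' t.2) ⊗ₜ (y t.1 * y' t.2) := by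
      rw [Bialgebra.comul_mul, hΔ, hΔ', Finset.sum_mul_sum, Finset.sum_product]
      exact Finset.sum_congr rfl fun i _ => Finset.sum_congr rfl fun j _ => Algebra.TensorProduct.tmul_mul_tmul ..
    let Pa : ι → B := fun i => if q' i < 0 then 0 else g.ofConv (x i) * (g⁻¹).ofConv (y i)
    let Pb : ι' → B := fun i => if q'' i < 0 then 0 else g.ofConv (x' i) * (g⁻¹).ofConv (y' i)
    have hP : ∀ (κ : Type u) (t : Finset κ) (X Y : κ → A) (Q : κ → ℤ) (c : A),
        Coalgebra.comul (R := k) c = ∑ i ∈ t, X i ⊗ₜ Y i → (∀ i ∈ t, Hom lam (Q i) (Y i)) →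
        (∑ i ∈ t, if Q i < 0 then 0 else g.ofConv (X i) * (g⁻¹).ofConv (Y i)) =
          algebraMap k B (Coalgebra.counit (R := k) c) - H.ofConv c := by
      intro κ t X Y Q c hc hY
      rw [eq_sub_iff_add_eq, lmul_apply_sum _ _ t X Y hc, ← Finset.sum_add_distrib,
        show algebraMap k B (Coalgebra.counit (R := k) c) = (1 : Pt (k := k) A B).ofConv c from rfl,
        ← mul_inv_cancel g, mul_apply_sum g g⁻¹ t X Y hc]
      refine Finset.sum_congr rfl fun i hi => ?_
      show (if Q i < 0 then (0 : B) else _) + g.ofConv (X i) * (g⁻¹).ofConv (pN (Y i)) = _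
      rw [(hY i hi).prS_eq]
      split_ifs with h
      · rw [zero_add]
      · rw [map_zero, mul_zero, add_zero]
    have htot : H.ofConv (a * b) + (∑ i ∈ s, Pa i) * (∑ j ∈ s', Pb j) =
        algebraMap k B (Coalgebra.counit (R := k) a) * algebraMap k B (Coalgebra.counit (R := k) b) := by
      rw [show algebraMap k B (Coalgebra.counit (R := k) a) * algebraMap k B (Coalgebra.counit (R := k) b) =
          (1 : Pt (k := k) A B).ofConv (a * b) from (map_mul (1 : Pt (k := k) A B).ofConv a b).symm,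
        ← mul_inv_cancel g, mul_apply_sum g g⁻¹ _ _ _ hab, lmul_apply_sum _ _ _ _ _ hab,
        Finset.sum_mul_sum, ← Finset.sum_product', ← Finset.sum_add_distrib]
      refine Finset.sum_congr rfl fun t ht => ?_
      obtain ⟨ht1, ht2⟩ := Finset.mem_product.1 ht
      obtain ⟨hpq, hx, hy⟩ := hs _ ht1
      obtain ⟨hpq', hx', hy'⟩ := hs' _ ht2
      show g.ofConv (x t.1 * x' t.2) * (g⁻¹).ofConv (pN (y t.1 * y' t.2)) + Pa t.1 * Pb t.2 = _
      rw [(hy.mul lam hy').prS_eq]
      simp only [Pa, Pb]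
      by_cases hneg : q' t.1 + q'' t.2 < 0
      · rw [if_pos hneg]
        have : (if q' t.1 < 0 then (0 : B) else g.ofConv (x t.1) * (g⁻¹).ofConv (y t.1)) *
            (if q'' t.2 < 0 then 0 else g.ofConv (x' t.2) * (g⁻¹).ofConv (y' t.2)) = 0 := by
          split_ifs <;> first | simp | omega
        rw [this, add_zero]
      · rw [if_neg hneg, map_zero, mul_zero, zero_add]
        by_cases h1 : q' t.1 < 0
        · rw [if_pos h1, zero_mul, hsq _ _ (hgJ (p t.1 + p' t.2) (by omega) _ (hx.mul lam hx')) (by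
            rw [map_mul]; exact J.mul_mem_right _ (hg'J _ h1 _ hy))]
        by_cases h2 : q'' t.2 < 0
        · rw [if_pos h2, mul_zero, hsq _ _ (hgJ (p t.1 + p' t.2) (by omega) _ (hx.mul lam hx')) (by
            rw [map_mul]; exact J.mul_mem_left _ (hg'J _ h2 _ hy'))]
        rw [if_neg h1, if_neg h2, map_mul, map_mul]
        ring
    rw [show ∑ i ∈ s, Pa i = algebraMap k B (Coalgebra.counit (R := k) a) - H.ofConv a from
        hP ι s x y q' a hΔ fun i hi => (hs i hi).2.2,
      show ∑ j ∈ s', Pb j = algebraMap k B (Coalgebra.counit (R := k) b) - H.ofConv b from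
        hP ι' s' x' y' q'' b hΔ' fun i hi => (hs' i hi).2.2] at htot
    rw [Algebra.smul_def, Algebra.smul_def]
    linear_combination htot - hsq _ _ (hN m a ha) (hN n b hb)
  let D : A →ₗ[k] B := - (E.ofConv ∘ₗ pN)
  have hDneg : ∀ (n : ℤ) (a : A), n < 0 → Hom lam n a → D a = H.ofConv a := fun n a hn ha => by
    show - E.ofConv (pN a) = _
    rw [ha.prS_eq, if_pos hn, hHE n a hn ha]
  have hDpos : ∀ (n : ℤ) (a : A), ¬ n < 0 → Hom lam n a → D a = 0 := fun n a hn ha => by
    show - E.ofConv (pN a) = _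
    rw [ha.prS_eq, if_neg hn, map_zero, neg_zero]
  obtain ⟨x, hx⟩ := exists_pt_of_der lam hJ D (fun a => neg_mem (hEJ _)) (fun m n a b ha hb => by
    by_cases hmn : m + n < 0
    · rw [hDneg _ _ hmn (ha.mul lam hb), hHder m n a b hmn ha hb]
      congr 1
      · by_cases hm : m = 0
        · rw [hDneg n b (by omega) hb]
        · rw [counit_eq_zero lam ha hm, zero_smul, zero_smul]
      · by_cases hn : n = 0
        · rw [hDneg m a (by omega) ha]
        · rw [counit_eq_zero lam hb hn, zero_smul, zero_smul]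
    · rw [hDpos _ _ hmn (ha.mul lam hb)]
      by_cases hm : m = 0
      · by_cases hn : n = 0
        · rw [hDpos m a (by omega) ha, hDpos n b (by omega) hb, smul_zero, smul_zero, add_zero]
        · rw [hDpos n b (by omega) hb, counit_eq_zero lam hb hn, smul_zero, zero_smul, add_zero]
      · rw [counit_eq_zero lam ha hm, zero_smul, zero_add]
        by_cases hn : n = 0
        · rw [hDpos m a (by omega) ha, smul_zero]
        · rw [counit_eq_zero lam hb hn, zero_smul])
  refine ⟨x * g, fun n hn a ha => ?_, ?_⟩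
  · have hlx : lp (x * g) = lp g + toConv D * lp g := by
      rw [lp_mul, show lp x = 1 + toConv D from WithConv.ext (LinearMap.ext fun b => hx b), add_mul, _root_.one_mul]
    have hEg : E * lp g = toConv (g.ofConv.toLinearMap ∘ₗ pN) := by
      rw [mul_assoc, ← lp_mul, inv_mul_cancel, lp_one, _root_.mul_one]
    have hDg : (toConv D * lp g).ofConv a = - (E * lp g).ofConv a := by
      obtain ⟨ι, s, X, Y, p, q', hΔ, hs⟩ := exists_repr lam ha
      rw [lmul_apply_sum _ _ s X Y hΔ, lmul_apply_sum _ _ s X Y hΔ, ← Finset.sum_neg_distrib]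
      refine Finset.sum_congr rfl fun i hi => ?_
      obtain ⟨hpq, hX, hY⟩ := hs i hi
      show D (X i) * g.ofConv (Y i) = -(E.ofConv (X i) * g.ofConv (Y i))
      by_cases h1 : p i < 0
      · rw [hDneg _ _ h1 hX, hHE _ _ h1 hX, neg_mul]
      · rw [hDpos _ _ h1 hX, zero_mul, hsq _ _ (hEJ _) (hgJ _ (by omega) _ hY), neg_zero]
    have h : (lp (x * g)).ofConv a = 0 := by
      rw [hlx]
      show g.ofConv a + (toConv D * lp g).ofConv a = 0
      rw [hDg, hEg]
      show g.ofConv a + - g.ofConv (pN a) = 0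
      rw [ha.prS_eq, if_pos hn, add_neg_cancel]
    exact h
  · rw [map_mul, show pmap (Ideal.Quotient.mkₐ k J) x = 1 from WithConv.ext (AlgHom.ext fun a => by
      show Ideal.Quotient.mkₐ k J (x.ofConv a) = algebraMap k _ (Coalgebra.counit (R := k) a)
      rw [hx, map_add, AlgHom.commutes, show Ideal.Quotient.mkₐ k J (D a) = 0 from
        Ideal.Quotient.eq_zero_iff_mem.2 (neg_mem (hEJ _)), add_zero]), _root_.one_mul]

theorem exists_unit_lift {J : Ideal B} (hJ : J * J = ⊥) (g : Pt (k := k) A B)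
    (hg : Dyn.LimIsOne k A lam (B ⧸ J) ((Ideal.Quotient.mkₐ k J).comp g.ofConv)) :
    ∃ u : Pt (k := k) A B, Dyn.LimIsOne k A lam B u.ofConv ∧
      pmap (Ideal.Quotient.mkₐ k J) u = pmap (Ideal.Quotient.mkₐ k J) g := by
  obtain ⟨hneg, h0⟩ := (limIsOne_iff lam _).1 hg
  obtain ⟨g1, hg1, hg1e⟩ := exists_negKill_lift lam hJ g hneg
  obtain ⟨z, hz, -, hu⟩ := exists_limit lam ((limExists_iff lam _).2 hg1)
  refine ⟨z⁻¹ * g1, hu, ?_⟩
  have hz1 : pmap (Ideal.Quotient.mkₐ k J) z = 1 := WithConv.ext (AlgHom.ext fun a => by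
    show Ideal.Quotient.mkₐ k J (z.ofConv a) = algebraMap k _ (Coalgebra.counit (R := k) a)
    rw [hz, ← counit_pr_zero lam a]
    exact (DFunLike.congr_fun (congrArg WithConv.ofConv hg1e) (pr lam 0 a)).trans (h0 _ (hom_pr lam 0 a)))
  rw [map_mul, map_inv, hz1, inv_one, _root_.one_mul, hg1e]

theorem formallySmooth_of_lifts [Algebra.FormallySmooth k A] {I : Ideal A}
    {P : ∀ (R : Type u) [CommRing R] [Algebra k R], (A →ₐ[k] R) → Prop} (hI : Dyn.Represents k A I P)
    (hl : ∀ (B : Type u) [CommRing B] [Algebra k B] (J : Ideal B), J * J = ⊥ → ∀ g : Pt (k := k) A B,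
      P (B ⧸ J) ((Ideal.Quotient.mkₐ k J).comp g.ofConv) → ∃ g' : Pt (k := k) A B, P B g'.ofConv ∧
        pmap (Ideal.Quotient.mkₐ k J) g' = pmap (Ideal.Quotient.mkₐ k J) g) :
    Algebra.FormallySmooth k (A ⧸ I) := by
  refine Algebra.FormallySmooth.of_comp_surjective fun B _ _ J hJ f => ?_
  obtain ⟨g, hg⟩ := Algebra.FormallySmooth.exists_lift J ⟨2, hJ⟩ (f.comp (Ideal.Quotient.mkₐ k I))
  have hP : P (B ⧸ J) ((Ideal.Quotient.mkₐ k J).comp g) := (hI _ _).1 fun a ha => by
    rw [hg]
    show f (Ideal.Quotient.mkₐ k I a) = 0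
    rw [show Ideal.Quotient.mkₐ k I a = 0 from Ideal.Quotient.eq_zero_iff_mem.2 ha, map_zero]
  obtain ⟨g', hg', hge⟩ := hl B J (by rw [← pow_two]; exact hJ) (toConv g) hP
  refine ⟨Ideal.Quotient.liftₐ I g'.ofConv ((hI _ _).2 hg'), Ideal.Quotient.algHom_ext k ?_⟩
  refine Eq.trans (AlgHom.ext fun a => ?_) hg
  exact DFunLike.congr_fun (congrArg WithConv.ofConv hge) a

theorem fg_jPlus [Algebra.FiniteType k A] : (jPlus lam).FG ∧ (jU lam).FG := by
  classical
  obtain ⟨t, ht⟩ := Algebra.FiniteType.out (R := k) (A := A)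
  let G : Finset (ℤ × A) := t.biUnion fun a => (cO lam a).coeff.support.image fun n => (n, pr lam n a)
  have hG : ∀ x ∈ G, Hom lam x.1 x.2 := by
    intro x hx
    simp only [G, Finset.mem_biUnion, Finset.mem_image] at hx
    obtain ⟨a, -, n, -, rfl⟩ := hx
    exact hom_pr lam n a
  let N : Finset A := (G.filter fun x => x.1 < 0).image Prod.snd
  let Z : Finset A := (G.filter fun x => x.1 = 0).image fun x =>
    x.2 - algebraMap k A (Coalgebra.counit (R := k) x.2)
  have hpr : ∀ a ∈ t, ∀ n, pr lam n a ≠ 0 → (n, pr lam n a) ∈ G := fun a ha n hn =>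
    Finset.mem_biUnion.2 ⟨a, ha, Finset.mem_image.2 ⟨n, Finsupp.mem_support_iff.2 hn, rfl⟩⟩
  have key : ∀ {R : Type u} [CommRing R] [Algebra k R] (g : A →ₐ[k] R),
      (∀ x ∈ N, g x = 0) → NegKill lam g := by
    intro R _ _ g hg
    refine (limExists_iff lam g).1 ?_
    have hmem : ∀ a, Dyn.conjOrbit k A lam R g a ∈ (inclP (k := k) R).range := by
      have hle : (⊤ : Subalgebra k A) ≤ (inclP (k := k) R).range.comap (Dyn.conjOrbit k A lam R g) := by
        rw [← ht, Algebra.adjoin_le_iff]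
        intro a ha
        show Dyn.conjOrbit k A lam R g a ∈ (inclP (k := k) R).range
        rw [← sum_pr lam a, map_sum]
        refine Subalgebra.sum_mem _ fun n hn => ?_
        rw [(hom_pr lam n a).conjOrbit]
        by_cases h : n < 0
        · rw [hg _ (Finset.mem_image.2 ⟨(n, pr lam n a),
            Finset.mem_filter.2 ⟨hpr a ha n (Finsupp.mem_support_iff.1 hn), h⟩, rfl⟩), single_zero]
          exact Subalgebra.zero_mem _
        · refine ⟨Polynomial.C (g (pr lam n a)) * Polynomial.X ^ n.toNat, ?_⟩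
          show Polynomial.toLaurent _ = _
          rw [Polynomial.toLaurent_C_mul_X_pow, ← LaurentPolynomial.single_eq_C_mul_T,
            Int.toNat_of_nonneg (le_of_not_gt h)]
      exact fun a => hle trivial
    let e := AlgEquiv.ofInjective (inclP (k := k) R) inclP_injective
    refine ⟨(e.symm : _ →ₐ[k] Polynomial R).comp ((Dyn.conjOrbit k A lam R g).codRestrict _ hmem), ?_⟩
    refine AlgHom.ext fun a => ?_
    exact congrArg Subtype.val (e.apply_symm_apply ⟨_, hmem a⟩)
  have h1 : jPlus lam = Ideal.span (N : Set A) := by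
    refine le_antisymm (fun a ha => ?_) (Ideal.span_le.2 fun a ha => ?_)
    · exact Ideal.Quotient.eq_zero_iff_mem.1 ((kills_jPlus lam (Ideal.Quotient.mkₐ k (Ideal.span (N : Set A)))).2
        (key _ fun x hx => Ideal.Quotient.eq_zero_iff_mem.2 (Ideal.subset_span hx)) a ha)
    · obtain ⟨x, hx, rfl⟩ := Finset.mem_image.1 ha
      exact Ideal.subset_span ⟨x.1, (Finset.mem_filter.1 hx).2, hG x (Finset.mem_filter.1 hx).1⟩
  refine ⟨⟨N, h1.symm⟩, ⟨N ∪ Z, ?_⟩⟩
  refine le_antisymm (Ideal.span_le.2 fun a ha => ?_) fun a ha => ?_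
  · rcases Finset.mem_union.1 ha with h | h
    · exact Ideal.mem_sup_left (h1 ▸ Ideal.subset_span h)
    · obtain ⟨x, hx, rfl⟩ := Finset.mem_image.1 h
      exact Ideal.mem_sup_right (Ideal.subset_span ⟨x.2, (Finset.mem_filter.1 hx).2 ▸ hG x (Finset.mem_filter.1 hx).1, rfl⟩)
  · let K : Ideal A := Ideal.span ((N ∪ Z : Finset A) : Set A)
    let π := Ideal.Quotient.mkₐ k K
    have hn : NegKill lam π := key π fun x hx =>
      Ideal.Quotient.eq_zero_iff_mem.2 (Ideal.subset_span (Finset.mem_union_left _ hx))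
    refine Ideal.Quotient.eq_zero_iff_mem.1 ((kills_jU lam π).2 ⟨hn, ?_⟩ a ha)
    obtain ⟨z, hz, -, -⟩ := exists_limit lam ((limExists_iff lam π).2 hn)
    have hz1 : z.ofConv = (1 : Pt (k := k) A (A ⧸ K)).ofConv := by
      refine AlgHom.ext_of_adjoin_eq_top ht fun a ha => ?_
      rw [hz]
      show π (pr lam 0 a) = algebraMap k _ (Coalgebra.counit (R := k) a)
      rw [← counit_pr_zero lam a]
      by_cases h0 : pr lam 0 a = 0
      · rw [h0, map_zero, map_zero, map_zero]
      · rw [← AlgHom.commutes π]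
        refine Ideal.Quotient.eq.2 (Ideal.subset_span (Finset.mem_union_right _ ?_))
        exact Finset.mem_image.2 ⟨(0, pr lam 0 a), Finset.mem_filter.2 ⟨hpr a ha 0 h0, rfl⟩, rfl⟩
    intro b hb
    have h2 := hz b
    rw [hz1, hb.pr_eq, if_pos rfl] at h2
    exact h2.symm

end Groth.L25.Dyn
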