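import Groth.Agent.L25.MultType.Dense
import Groth.Agent.L25.MultType.DenseOpen
import Groth.Agent.L25.Dyn.Grading
import Mathlib.RingTheory.Bialgebra.TensorProduct
import Mathlib.LinearAlgebra.FreeModule.PID

/-!
# Torsion points of order prime to the characteristic are dense in a torus
-/

set_option autoImplicit false

universe u

open TensorProduct WithConv

noncomputable section

namespace Groth.L25.Dyn

/-- A nonzero element of a torus ring is nonzero at some torsion point. -/
theorem exists_torsion_eval_prime {K : Type u} [Field K] {F : Type u} [CommGroup F] {r : ℕ}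
    (f : Additive F ≃+ (Fin r →₀ ℤ)) {d : MonoidAlgebra K F} (hd : d ≠ 0) :
    ∃ (q : ℕ) (η : F →* AlgebraicClosure K), 0 < q ∧ (q : K) ≠ 0 ∧ (∀ v, η v ^ q = 1) ∧
      MonoidAlgebra.lift K (AlgebraicClosure K) F η d ≠ 0 := by
  classical
  let Kb := AlgebraicClosure K
  obtain ⟨w, hw⟩ := MultType.Dense.exists_weight (d.coeff.support.image fun v => f (Additive.ofMul v))
  let wt : F → ℤ := fun v => w (f (Additive.ofMul v))
  have hwt : Set.InjOn wt ↑d.coeff.support := fun a ha b hb h =>
    Additive.ofMul.injective (f.injective (hw (Finset.mem_image_of_mem _ ha)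
      (Finset.mem_image_of_mem _ hb) h))
  let bound := ∑ v ∈ d.coeff.support, (wt v).natAbs
  obtain ⟨q, hq, hqp⟩ := Nat.exists_infinite_primes (2 * bound + ringChar K + 1)
  haveI : Fact q.Prime := ⟨hqp⟩
  haveI : NeZero (q : Kb) := ⟨fun h => by
    have h1 : (q : K) = 0 := by
      apply (algebraMap K Kb).injective
      rw [map_natCast, map_zero]
      exact h
    have h2 := (ringChar.spec K q).1 h1
    rcases hqp.eq_one_or_self_of_dvd _ h2 with h3 | h3
    · exact CharP.ringChar_ne_one h3
    · omega⟩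
  obtain ⟨ζ, hζ⟩ := HasEnoughRootsOfUnity.exists_primitiveRoot Kb q
  let res : F → ℕ := fun v => ((wt v) % (q : ℤ)).toNat
  have hres : ∀ v, res v < q := fun v => by
    have h1 := Int.emod_lt_of_pos (wt v) (by exact_mod_cast hqp.pos : (0 : ℤ) < q)
    have h2 := Int.emod_nonneg (wt v) (by exact_mod_cast hqp.ne_zero : (q : ℤ) ≠ 0)
    simp only [res]
    omega
  have hresinj : Set.InjOn res ↑d.coeff.support := by
    intro a ha b hb h
    refine hwt ha hb ?_
    have h1 : (wt a) % (q : ℤ) = (wt b) % (q : ℤ) := by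
      have h2 := Int.emod_nonneg (wt a) (by exact_mod_cast hqp.ne_zero : (q : ℤ) ≠ 0)
      have h3 := Int.emod_nonneg (wt b) (by exact_mod_cast hqp.ne_zero : (q : ℤ) ≠ 0)
      simp only [res] at h
      omega
    obtain ⟨c, hc⟩ := Int.ModEq.dvd h1
    have ha' : (wt a).natAbs ≤ bound :=
      Finset.single_le_sum (f := fun v => (wt v).natAbs) (by simp) ha
    have hb' : (wt b).natAbs ≤ bound :=
      Finset.single_le_sum (f := fun v => (wt v).natAbs) (by simp) hb
    have hc0 : c = 0 := by
      by_contra hc0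
      have h4 : (wt b - wt a).natAbs = q * c.natAbs := by rw [hc, Int.natAbs_mul, Int.natAbs_natCast]
      have h5 : q ≤ q * c.natAbs := Nat.le_mul_of_pos_right _ (Int.natAbs_pos.2 hc0)
      omega
    rw [hc0, mul_zero] at hc
    omega
  let P : Polynomial Kb :=
    ∑ v ∈ d.coeff.support, Polynomial.monomial (res v) (algebraMap K Kb (d.coeff v))
  have hP : P ≠ 0 := by
    obtain ⟨v, hv⟩ : d.coeff.support.Nonempty := Finsupp.support_nonempty_iff.2 fun h => hd
      (MonoidAlgebra.ext h)
    intro h0
    have h1 := congrArg (fun p => Polynomial.coeff p (res v)) h0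
    simp only [P, Polynomial.finsetSum_coeff, Polynomial.coeff_monomial, Polynomial.coeff_zero] at h1
    rw [Finset.sum_eq_single v (fun j hj hne => if_neg (fun h => hne (hresinj hj hv h)))
      (fun h => absurd hv h), if_pos rfl, map_eq_zero] at h1
    exact (Finsupp.mem_support_iff.1 hv) h1
  obtain ⟨i, hi, hne⟩ : ∃ i < q, P.eval (ζ ^ i) ≠ 0 := by
    by_contra hcon
    refine hP (Polynomial.eq_zero_of_natDegree_lt_card_of_eval_eq_zero P
      (f := fun i : Fin q => ζ ^ (i : ℕ)) (fun a b h => Fin.ext (hζ.pow_inj a.2 b.2 h))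
      (fun i => not_not.1 fun h => hcon ⟨i, i.2, h⟩) ?_)
    rw [Fintype.card_fin]
    refine lt_of_le_of_lt (Polynomial.natDegree_sum_le_of_forall_le _ _ (n := q - 1) fun v _ => ?_) ?_
    · exact (Polynomial.natDegree_monomial_le _).trans (by have := hres v; omega)
    · have := hqp.pos
      omega
  have hζ0 : ζ ≠ 0 := hζ.ne_zero hqp.ne_zero
  let η : F →* Kb :=
    { toFun := fun v => ((Units.mk0 ζ hζ0 ^ i) ^ wt v : Kbˣ).1
      map_one' := by simp [wt]
      map_mul' := fun a b => by
        simp only [wt, ofMul_mul, map_add, zpow_add, Units.val_mul] }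
  have hpow : ∀ v, η v = (ζ ^ i) ^ res v := by
    intro v
    have hu : (Units.mk0 ζ hζ0 ^ i) ^ (q : ℤ) = 1 := by
      refine Units.ext ?_
      rw [zpow_natCast, Units.val_pow_eq_pow_val, Units.val_pow_eq_pow_val, Units.val_mk0,
        Units.val_one, ← pow_mul, mul_comm, pow_mul, hζ.pow_eq_one, one_pow]
    have h1 : wt v = (q : ℤ) * (wt v / q) + (res v : ℤ) := by
      have h2 := Int.emod_nonneg (wt v) (by exact_mod_cast hqp.ne_zero : (q : ℤ) ≠ 0)
      simp only [res, Int.toNat_of_nonneg h2]
      exact (Int.mul_ediv_add_emod (wt v) q).symm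
    change ((Units.mk0 ζ hζ0 ^ i) ^ wt v : Kbˣ).1 = _
    rw [h1, zpow_add, zpow_mul, hu, one_zpow, one_mul, zpow_natCast]
    simp
  refine ⟨q, η, hqp.pos, fun h => NeZero.ne (q : Kb) (by rw [← map_natCast (algebraMap K Kb), h, map_zero]), fun v => ?_, ?_⟩
  · rw [hpow, ← pow_mul, ← pow_mul, show i * (res v * q) = q * (i * res v) by ring, pow_mul,
      hζ.pow_eq_one, one_pow]
  · have h1 : MonoidAlgebra.lift K Kb F η d = P.eval (ζ ^ i) := by
      rw [MonoidAlgebra.lift_apply, Finsupp.sum, Polynomial.eval_finsetSum]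
      refine Finset.sum_congr rfl fun v _ => ?_
      rw [Polynomial.eval_monomial, hpow, Algebra.smul_def]
    rwa [h1]

/-- torsion points prime to the characteristic separate functions on a torus -/
theorem exists_torsion_point {k : Type u} [Field k] [IsAlgClosed k] {B : Type u} [CommRing B] [HopfAlgebra k B]
    [Algebra.FiniteType k B] [IsDomain B] (hB : SGA3b.IsMultType k B) {f : B} (hf : f ≠ 0) :
    ∃ (q : ℕ) (x : Pt (k := k) B k), 0 < q ∧ (q : k) ≠ 0 ∧ x ^ q = 1 ∧ x.ofConv f ≠ 0 := by
  obtain ⟨M, _, hM, ⟨d₀⟩⟩ := MultType.DenseOpen.exists_split_algClosed hB k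
  let d : B ≃ₐc[k] MonoidAlgebra k M := (Bialgebra.TensorProduct.lid k B).symm.trans d₀
  haveI : IsDomain (MonoidAlgebra k M) := d.toAlgEquiv.toMulEquiv.symm.isDomain _
  have htf : ∀ (m : M) (n : ℕ), 0 < n → m ^ n = 1 → m = 1 := by
    intro m n hn hmn
    let y : MonoidAlgebra k M := MonoidAlgebra.single m 1
    have hy : y ^ n = 1 := by
      rw [MonoidAlgebra.single_pow, one_pow, hmn]; rfl
    haveI : Algebra.IsIntegral k (Algebra.adjoin k {y}) :=
      Algebra.IsIntegral.adjoin (fun z hz => by
        rw [Set.mem_singleton_iff.1 hz]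
        exact IsIntegral.of_pow hn (hy ▸ isIntegral_one))
    obtain ⟨c, hc⟩ := (IsAlgClosed.algebraMap_bijective_of_isIntegral (k := k) (K := Algebra.adjoin k {y})).2
      (⟨y, Algebra.subset_adjoin rfl⟩ : Algebra.adjoin k {y})
    have hc' : MonoidAlgebra.single (1 : M) c = MonoidAlgebra.single m (1 : k) := congrArg Subtype.val hc
    by_contra hne
    have h1 := congrArg (fun w => w.coeff m) hc'
    simp [Ne.symm hne] at h1
  haveI := hM
  haveI : Module.Finite ℤ (Additive M) := Module.Finite.iff_addGroup_fg.2 inferInstance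
  haveI : Module.IsTorsionFree ℤ (Additive M) := by
    refine Module.IsTorsionFree.of_smul_eq_zero fun n v h => ?_
    by_cases hn : n = 0
    · exact Or.inl hn
    · refine Or.inr ?_
      have h1 : (Additive.toMul v) ^ n.natAbs = 1 := by
        rw [← zpow_natCast]
        rcases Int.natAbs_eq n with e | e
        · rw [← e]; exact h
        · rw [show (n.natAbs : ℤ) = -n by omega, zpow_neg, inv_eq_one]; exact h
      exact htf _ _ (Int.natAbs_pos.2 hn) h1
  haveI : Module.Free ℤ (Additive M) := Module.free_of_finite_type_torsion_free'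
  let b := Module.finBasis ℤ (Additive M)
  obtain ⟨q, η, hq, hq0, hη, hne⟩ := exists_torsion_eval_prime (K := k) b.repr.toAddEquiv
    (show d f ≠ 0 from fun h => hf (d.injective (h.trans (map_zero d).symm)))
  have hk : ∀ v, ∃ c : k, algebraMap k (AlgebraicClosure k) c = η v := fun v =>
    (IsAlgClosed.algebraMap_bijective_of_isIntegral (k := k) (K := AlgebraicClosure k)).2 (η v)
  choose η₀ hη₀ using hk
  have hinj := (algebraMap k (AlgebraicClosure k)).injective
  let η' : M →* k :=
    { toFun := η₀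
      map_one' := hinj (by rw [hη₀, map_one, map_one])
      map_mul' := fun a c => hinj (by rw [hη₀, map_mul, map_mul, hη₀, hη₀]) }
  let pre : WithConv (MonoidAlgebra k M →ₐ[k] k) →* Pt (k := k) B k :=
    MonoidHom.mk' (fun z => toConv (z.ofConv.comp (d : B →ₐ[k] MonoidAlgebra k M)))
      (fun z z' => congrArg toConv (AlgHom.convMul_comp_bialgHom_distrib z z' (d : B →ₐc[k] MonoidAlgebra k M)))
  refine ⟨q, pre (MonoidAlgebra.liftMulEquiv k k M η'), hq, hq0, ?_, ?_⟩
  · rw [← map_pow, ← map_pow, show η' ^ q = 1 from MonoidHom.ext fun v => hinj (by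
      show algebraMap k _ (η₀ v ^ q) = algebraMap k _ 1
      rw [map_pow, hη₀, hη, map_one]), map_one, map_one]
  · intro h
    apply hne
    have e : MonoidAlgebra.lift k (AlgebraicClosure k) M η =
        (Algebra.ofId k (AlgebraicClosure k)).comp (MonoidAlgebra.lift k k M η') := by
      refine MonoidAlgebra.algHom_ext' (MonoidHom.ext fun v => ?_) (Subsingleton.elim _ _)
      show MonoidAlgebra.lift k (AlgebraicClosure k) M η (MonoidAlgebra.single v 1) =
        algebraMap k (AlgebraicClosure k) (MonoidAlgebra.lift k k M η' (MonoidAlgebra.single v 1))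
      simp only [MonoidAlgebra.lift_single, one_smul]
      exact (hη₀ v).symm
    rw [e]
    show algebraMap k _ ((MonoidAlgebra.lift k k M η') (d f)) = 0
    rw [show MonoidAlgebra.lift k k M η' (d f) = 0 from h, map_zero]

end Groth.L25.Dyn
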